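import Mathlib

/-!
A `p`-minimal linear group generated by any two suitable conjugates of a strict quadratic offender:
the fixed spaces of the conjugates form a spread.
-/

set_option autoImplicit false
set_option linter.unusedSectionVars false

namespace Cfsg.Lib.FFSLTwo

open Subgroup

variable {P : Type*} [Group P] [Finite P] {V : Type*} [AddCommGroup V] [Finite V]

/-- the fixed points of `A` -/
def fixA (φ : P →* AddMonoid.End V) (A : Subgroup P) : AddSubgroup V where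
  carrier := {v | ∀ a ∈ A, φ a v = v}
  zero_mem' := fun a _ => map_zero _
  add_mem' hv hw a ha := by rw [map_add, hv a ha, hw a ha]
  neg_mem' hv a ha := by rw [map_neg, hv a ha]

/-- `v ↦ a v - v` -/
def dd (φ : P →* AddMonoid.End V) (a : P) : AddMonoid.End V := φ a - 1

/-- conjugate subgroup -/
def cj (g : P) (A : Subgroup P) : Subgroup P := A.map (MulAut.conj g).toMonoidHom

/-- the hypotheses -/
structure Hyp (p : ℕ) [Fact p.Prime] (φ : P →* AddMonoid.End V) (T : Sylow p P) (A M : Subgroup P) :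
    Prop where
  inj : Function.Injective φ
  char : ∀ v : V, p • v = 0
  coatom : IsCoatom M
  hTM : (T : Subgroup P) ≤ M
  uniq : ∀ K : Subgroup P, (T : Subgroup P) ≤ K → K ≠ ⊤ → K ≤ M
  hAT : A ≤ (T : Subgroup P)
  ne_bot : A ≠ ⊥
  off : Nat.card V ≤ Nat.card A * Nat.card (fixA φ A)
  strict : ∀ A₀ : Subgroup P, A₀ ≤ A → A₀ ≠ ⊥ → A₀ ≠ A →
    Nat.card A₀ * Nat.card (fixA φ A₀) < Nat.card A * Nat.card (fixA φ A)
  quad : ∀ a ∈ A, ∀ b ∈ A, ∀ v, dd φ a (dd φ b v) = 0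
  moved : ∃ v, v ∈ fixA φ (T : Subgroup P) ∧ v ∉ fixA φ ⊤
  gen : ∀ g : P, g ∉ M → A ⊔ cj g A = ⊤

section Basic

variable {φ : P →* AddMonoid.End V}

theorem dd_apply (a : P) (v : V) : dd φ a v = φ a v - v := rfl

theorem mem_fixA_iff {A : Subgroup P} {v : V} : v ∈ fixA φ A ↔ ∀ a ∈ A, φ a v = v := Iff.rfl

theorem dd_eq_zero {a : P} {v : V} : dd φ a v = 0 ↔ φ a v = v := sub_eq_zero

theorem phi_mul (g h : P) (v : V) : φ (g * h) v = φ g (φ h v) := by rw [map_mul]; rfl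

theorem phi_one (v : V) : φ 1 v = v := by rw [map_one]; rfl

theorem phi_inv_cancel (g : P) (v : V) : φ g⁻¹ (φ g v) = v := by
  rw [← phi_mul, inv_mul_cancel, phi_one]

theorem phi_cancel_inv (g : P) (v : V) : φ g (φ g⁻¹ v) = v := by
  rw [← phi_mul, mul_inv_cancel, phi_one]

theorem mem_cj {g a : P} {A : Subgroup P} : a ∈ cj g A ↔ g⁻¹ * a * g ∈ A := by
  constructor
  · rintro ⟨b, hb, rfl⟩; simpa [mul_assoc] using hb
  · exact fun h => ⟨_, h, by simp [mul_assoc]⟩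

theorem mem_fixA_cj {g : P} {A : Subgroup P} {v : V} : v ∈ fixA φ (cj g A) ↔ φ g⁻¹ v ∈ fixA φ A := by
  constructor
  · intro h a ha
    have h1 := h (g * a * g⁻¹) (mem_cj.2 (by simpa [mul_assoc] using ha))
    rw [phi_mul, phi_mul] at h1
    have h2 := congrArg (φ g⁻¹) h1
    rwa [phi_inv_cancel] at h2
  · intro h a ha
    have h1 := h _ (mem_cj.1 ha)
    have h2 := congrArg (φ g) h1
    rw [phi_mul, phi_mul, phi_cancel_inv, phi_cancel_inv] at h2
    exact h2

theorem dd_cj (g a : P) (v : V) : dd φ (g * a * g⁻¹) v = φ g (dd φ a (φ g⁻¹ v)) := by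
  rw [dd_apply, dd_apply, map_sub, phi_cancel_inv, phi_mul, phi_mul]

theorem fix_top_of_fix {A B : Subgroup P} (h : A ⊔ B = ⊤) {v : V} (hA : v ∈ fixA φ A)
    (hB : v ∈ fixA φ B) : v ∈ fixA φ (⊤ : Subgroup P) := by
  rintro g -
  have hg : g ∈ A ⊔ B := h ▸ mem_top g
  rw [sup_eq_closure] at hg
  induction hg using closure_induction with
  | mem x hx => exact hx.elim (hA x) (hB x)
  | one => exact phi_one v
  | mul x y _ _ hx hy => rw [phi_mul, hy, hx]
  | inv x _ hx =>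
    calc φ x⁻¹ v = φ x⁻¹ (φ x v) := by rw [hx]
      _ = v := phi_inv_cancel x v

theorem card_fix_cj (g : P) (A : Subgroup P) (W : AddSubgroup V) (hW : ∀ h v, v ∈ W → φ h v ∈ W) :
    Nat.card ↥(fixA φ (cj g A) ⊓ W) = Nat.card ↥(fixA φ A ⊓ W) := by
  refine Nat.card_congr
    { toFun := fun v => ⟨φ g⁻¹ v.1, mem_fixA_cj.1 v.2.1, hW _ _ v.2.2⟩
      invFun := fun v => ⟨φ g v.1, mem_fixA_cj.2 (by rw [phi_inv_cancel]; exact v.2.1), hW _ _ v.2.2⟩
      left_inv := fun v => Subtype.ext (phi_cancel_inv g v.1)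
      right_inv := fun v => Subtype.ext (phi_inv_cancel g v.1) }

theorem card_sup_mul_card_inf (X Y : AddSubgroup V) :
    Nat.card ↥(X ⊔ Y) * Nat.card ↥(X ⊓ Y) = Nat.card X * Nat.card Y := by
  let f : X × Y →+ V := X.subtype.coprod Y.subtype
  have hr : f.range = X ⊔ Y := by
    ext v
    rw [AddSubgroup.mem_sup, AddMonoidHom.mem_range]
    constructor
    · rintro ⟨⟨a, b⟩, rfl⟩; exact ⟨a, a.2, b, b.2, rfl⟩
    · rintro ⟨a, ha, b, hb, rfl⟩; exact ⟨(⟨a, ha⟩, ⟨b, hb⟩), rfl⟩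
  have hk : Nat.card f.ker = Nat.card ↥(X ⊓ Y) := by
    refine Nat.card_congr
      { toFun := fun q => ⟨(q.1.1 : V), q.1.1.2, ?_⟩
        invFun := fun v => ⟨(⟨v.1, v.2.1⟩, ⟨-v.1, Y.neg_mem v.2.2⟩), add_neg_cancel v.1⟩
        left_inv := fun q => Subtype.ext (Prod.ext rfl (Subtype.ext
          (neg_eq_of_add_eq_zero_right q.2)))
        right_inv := fun v => rfl }
    have h0 : (q.1.1 : V) + q.1.2 = 0 := q.2
    rw [eq_neg_of_add_eq_zero_left h0]
    exact Y.neg_mem q.1.2.2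
  have h1 := AddSubgroup.card_eq_card_quotient_mul_card_addSubgroup f.ker
  rw [Nat.card_congr (QuotientAddGroup.quotientKerEquivRange f).toEquiv, hr, hk, Nat.card_prod] at h1
  exact h1.symm

theorem card_sylow_inf {p : ℕ} [Fact p.Prime] (T : Sylow p P) (N : Subgroup P) [N.Normal] :
    ∃ Q : Sylow p N, (Q : Subgroup N).map N.subtype = (T : Subgroup P) ⊓ N := by
  have hp : IsPGroup p ↥(((T : Subgroup P) ⊓ N).subgroupOf N) :=
    (T.2.to_le inf_le_left).comap_subtype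
  obtain ⟨Q, hQ⟩ := hp.exists_le_sylow
  refine ⟨Q, ?_⟩
  have hle : (T : Subgroup P) ⊓ N ≤ (Q : Subgroup N).map N.subtype := fun x hx =>
    ⟨⟨x, hx.2⟩, hQ (mem_subgroupOf.2 hx), rfl⟩
  obtain ⟨T', hT'⟩ := (Q.2.map N.subtype).exists_le_sylow
  obtain ⟨g, rfl⟩ := MulAction.exists_smul_eq P T T'
  refine (eq_of_le_of_card_ge hle ?_).symm
  have hsub : (Q : Subgroup N).map N.subtype ≤ cj g ((T : Subgroup P) ⊓ N) := by
    intro y hy
    refine mem_cj.2 ⟨?_, ?_⟩
    · have := hT' hy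
      rw [Sylow.coe_subgroup_smul, Subgroup.mem_pointwise_smul_iff_inv_smul_mem] at this
      show g⁻¹ * y * g ∈ (T : Subgroup P)
      simpa [MulAut.smul_def, mul_assoc] using this
    · have := Subgroup.Normal.conj_mem (inferInstance : N.Normal) y (map_subtype_le _ hy) g⁻¹
      simpa using this
  calc Nat.card ↥((Q : Subgroup N).map N.subtype) ≤ Nat.card ↥(cj g ((T : Subgroup P) ⊓ N)) :=
        Nat.card_le_card_of_injective _ (inclusion_injective hsub)
    _ = _ := (Nat.card_congr (((T : Subgroup P) ⊓ N).equivMapOfInjective _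
        (MulAut.conj g).injective).toEquiv).symm

end Basic

namespace Hyp

variable {p : ℕ} [Fact p.Prime] {φ : P →* AddMonoid.End V} {T : Sylow p P} {A M : Subgroup P}
  (h : Hyp p φ T A M)

include h

theorem exists_outside : ∃ x, x ∉ M := by
  by_contra hcon
  push Not at hcon
  exact h.coatom.1 (eq_top_iff.2 fun g _ => hcon g)

theorem dd_mem (a : P) (ha : a ∈ A) (v : V) : dd φ a v ∈ fixA φ A := fun b hb =>
  dd_eq_zero.1 (h.quad b hb a ha v)

theorem dd_mul {a b : P} (ha : a ∈ A) (hb : b ∈ A) (v : V) :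
    dd φ (a * b) v = dd φ a v + dd φ b v := by
  have h1 := h.quad a ha b hb v
  rw [dd_apply a, dd_apply b, map_sub] at h1
  rw [dd_apply, dd_apply, dd_apply, phi_mul]
  calc φ a (φ b v) - v
      = ((φ a (φ b v) - φ a v) - (φ b v - v)) + ((φ a v - v) + (φ b v - v)) := by abel
    _ = _ := by rw [h1, zero_add]

theorem dd_inv {a : P} (ha : a ∈ A) (v : V) : dd φ a⁻¹ v = -dd φ a v := by
  have h1 := h.dd_mul ha (A.inv_mem ha) v
  rw [mul_inv_cancel, dd_apply 1, phi_one, sub_self] at h1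
  exact eq_neg_of_add_eq_zero_right h1.symm

theorem fix_inter {g : P} (hg : g ∉ M) {v : V} (hv : v ∈ fixA φ A) (hv' : v ∈ fixA φ (cj g A)) :
    v ∈ fixA φ (⊤ : Subgroup P) := fix_top_of_fix (h.gen g hg) hv hv'

theorem stab_le {v : V} (hv : v ∈ fixA φ (T : Subgroup P)) (hv' : v ∉ fixA φ (⊤ : Subgroup P))
    {g : P} (hg : φ g v = v) : g ∈ M := by
  let K : Subgroup P :=
    { carrier := {g | φ g v = v}
      one_mem' := phi_one v
      mul_mem' := fun {a b} ha hb => by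
        show φ (a * b) v = v
        rw [phi_mul, show φ b v = v from hb, show φ a v = v from ha]
      inv_mem' := fun {a} ha => by
        show φ a⁻¹ v = v
        conv_lhs => rw [← (show φ a v = v from ha)]
        exact phi_inv_cancel a v }
  refine h.uniq K (fun t ht => hv t ht) (fun hK => hv' fun g _ => ?_) hg
  exact (hK ▸ mem_top g : g ∈ K)

/-- `T` meets the core of `M` in a normal subgroup -/
theorem normal_inf_core : ((T : Subgroup P) ⊓ M.normalCore).Normal := by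
  obtain ⟨Q, hQ⟩ := card_sylow_inf T M.normalCore
  have hfr := Sylow.normalizer_sup_eq_top Q
  rw [← normalizer_eq_top_iff]
  by_contra hne
  rw [hQ] at hfr
  refine h.coatom.1 (top_le_iff.1 (hfr ▸ sup_le ?_ M.normalCore_le))
  refine h.uniq _ ?_ hne
  intro t ht
  rw [mem_normalizer_iff]
  intro y
  have hN := (normalCore_normal M).conj_mem
  constructor
  · exact fun hy => ⟨(T : Subgroup P).mul_mem ((T : Subgroup P).mul_mem ht hy.1)
      ((T : Subgroup P).inv_mem ht), hN y hy.2 t⟩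
  · intro hy
    refine ⟨?_, ?_⟩
    · have h1 := (T : Subgroup P).mul_mem ((T : Subgroup P).mul_mem
        ((T : Subgroup P).inv_mem ht) hy.1) ht
      show y ∈ (T : Subgroup P)
      simpa [mul_assoc] using h1
    · simpa [mul_assoc] using hN _ hy.2 t⁻¹

/-- the sum of two fixed spaces is invariant -/
theorem sup_invariant {g : P} (hg : g ∉ M) (k : P) {v : V}
    (hv : v ∈ fixA φ A ⊔ fixA φ (cj g A)) : φ k v ∈ fixA φ A ⊔ fixA φ (cj g A) := by
  set S := fixA φ A ⊔ fixA φ (cj g A)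
  suffices key : ∀ k : P, ∀ w : V, dd φ k w ∈ S by
    have h1 := S.add_mem (key k v) hv
    rwa [dd_apply, sub_add_cancel] at h1
  intro k
  have hk : k ∈ closure ((A : Set P) ∪ (cj g A : Set P)) := by
    rw [← sup_eq_closure, h.gen g hg]; exact mem_top k
  induction hk using closure_induction with
  | mem a ha =>
    intro w
    rcases ha with ha | ha
    · exact AddSubgroup.mem_sup_left (h.dd_mem a ha w)
    · refine AddSubgroup.mem_sup_right ?_
      obtain ⟨b, hb, rfl⟩ := ha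
      simp only [MulEquiv.coe_toMonoidHom, MulAut.conj_apply]
      rw [dd_cj, mem_fixA_cj, phi_inv_cancel]
      exact h.dd_mem b hb _
  | one => intro w; rw [dd_apply, phi_one, sub_self]; exact S.zero_mem
  | mul a b _ _ ha hb =>
    intro w
    rw [show dd φ (a * b) w = dd φ a (φ b w) + dd φ b w by
      rw [dd_apply, dd_apply, dd_apply, phi_mul]; abel]
    exact S.add_mem (ha _) (hb _)
  | inv a _ ha =>
    intro w
    rw [show dd φ a⁻¹ w = -dd φ a (φ a⁻¹ w) by rw [dd_apply, dd_apply, phi_cancel_inv, neg_sub]]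
    exact S.neg_mem (ha _)

theorem conj_notMem_inj {g a : P} (hg : g ∉ M) (ha : a ∈ A) (haM : g⁻¹ * a * g ∉ M) {u : V}
    (hu : u ∈ fixA φ (cj g A)) (hd : dd φ a u ∈ fixA φ (⊤ : Subgroup P)) :
    u ∈ fixA φ (⊤ : Subgroup P) := by
  have hau : φ a u ∈ fixA φ (cj g A) := by
    have e : φ a u = u + dd φ a u := by rw [dd_apply]; abel
    rw [e]
    exact (fixA φ (cj g A)).add_mem hu fun b _ => hd b (mem_top b)
  rw [mem_fixA_cj] at hu hau
  have h1 : φ g⁻¹ u ∈ fixA φ (cj (g⁻¹ * a⁻¹ * g) A) := by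
    rw [mem_fixA_cj, ← phi_mul]
    rw [← phi_mul] at hau
    rwa [show (g⁻¹ * a⁻¹ * g)⁻¹ * g⁻¹ = g⁻¹ * a by group]
  have h2 := h.fix_inter (g := g⁻¹ * a⁻¹ * g) (fun hm => haM (by
    simpa [mul_assoc] using M.inv_mem hm)) hu h1
  intro k _
  have h3 := h2 (g⁻¹ * k * g) (mem_top _)
  rw [phi_mul, phi_mul, phi_cancel_inv] at h3
  have h4 := congrArg (φ g) h3
  rwa [phi_cancel_inv, phi_cancel_inv] at h4

theorem cj_notMem {a g : P} (ha : a ∈ A) (hac : a ∉ M.normalCore) (hg : g ∉ M) :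
    g⁻¹ * a * g ∉ M := by
  intro hm
  obtain ⟨v₀, hv₀, hv₀'⟩ := h.moved
  have hac' : ¬ ∀ b : P, b * a * b⁻¹ ∈ M := hac
  push Not at hac'
  obtain ⟨b, hb⟩ := hac'
  have hg0 : b⁻¹ ∉ M := fun hbM => hb (by
    have hbM' : b ∈ M := inv_inv b ▸ M.inv_mem hbM
    exact M.mul_mem (M.mul_mem hbM' (h.hTM (h.hAT ha))) hbM)
  -- conjugate the element into the Sylow subgroup inside `M`
  set a' : P := g⁻¹ * a * g with ha'
  have hpa : IsPGroup p ↥((zpowers (⟨a', hm⟩ : M))) := by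
    have h1 : IsPGroup p ↥(cj g⁻¹ A) := (T.2.to_le h.hAT).map _
    have h2 : IsPGroup p ↥(zpowers a') := by
      refine h1.to_le ?_
      rw [zpowers_le, mem_cj, ha']; simpa [mul_assoc] using ha
    refine (h2.comap_subtype : IsPGroup p ↥((zpowers a').subgroupOf M)).to_le ?_
    rw [zpowers_le]
    exact mem_zpowers a'
  obtain ⟨Q, hQ⟩ := hpa.exists_le_sylow
  obtain ⟨m, hm'⟩ := MulAction.exists_smul_eq M (T.subtype h.hTM) Q
  have hmem : (m : P)⁻¹ * a' * m ∈ (T : Subgroup P) := by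
    have h1 := hQ (mem_zpowers (⟨a', hm⟩ : M))
    rw [← hm', Sylow.coe_subgroup_smul, Subgroup.mem_pointwise_smul_iff_inv_smul_mem] at h1
    simpa [MulAut.smul_def, Sylow.coe_subtype, mem_subgroupOf, mul_assoc] using h1
  set y := g * (m : P) with hy
  have hyM : y ∉ M := fun hyM => hg (by simpa [hy] using M.mul_mem hyM (M.inv_mem m.2))
  set w := φ y v₀ with hw
  have hwy : w ∈ fixA φ (cj y A) := by
    rw [mem_fixA_cj, hw, phi_inv_cancel]; exact fun c hc => hv₀ c (h.hAT hc)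
  have hwa : φ a w = w := by
    have h1 := congrArg (φ y) (hv₀ _ hmem)
    rw [← phi_mul, ← hw] at h1
    rw [hw, ← phi_mul]
    rwa [show y * ((m : P)⁻¹ * a' * m) = a * y by rw [hy, ha']; group] at h1
  obtain ⟨u, hu, u', hu', huw⟩ := AddSubgroup.mem_sup.1 (h.sup_invariant hg0 y
    (AddSubgroup.mem_sup_left (fun c hc => hv₀ c (h.hAT hc)) :
      v₀ ∈ fixA φ A ⊔ fixA φ (cj b⁻¹ A)))
  have hu'0 : u' ∈ fixA φ (⊤ : Subgroup P) := by
    refine h.conj_notMem_inj hg0 ha (by simpa using hb) hu' ?_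
    have h1 : dd φ a u' = dd φ a w := by
      rw [hw, ← huw, map_add, dd_eq_zero.2 (hu a ha), zero_add]
    rw [h1, dd_eq_zero.2 hwa]; exact AddSubgroup.zero_mem _
  have hwA : w ∈ fixA φ A := by
    rw [hw, ← huw]; exact (fixA φ A).add_mem hu fun c _ => hu'0 c (mem_top c)
  refine hv₀' fun k _ => ?_
  have h2 := h.fix_inter hyM hwA hwy (y * k * y⁻¹) (mem_top _)
  rw [hw, phi_mul, phi_mul, phi_inv_cancel] at h2
  have h3 := congrArg (φ y⁻¹) h2
  rwa [phi_inv_cancel, phi_inv_cancel] at h3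

theorem fixA_top_le (B : Subgroup P) : fixA φ (⊤ : Subgroup P) ≤ fixA φ B :=
  fun _ hv b _ => hv b (mem_top b)

theorem inf_core_eq_bot : A ⊓ M.normalCore = ⊥ := by
  classical
  obtain ⟨v₀, hv₀, hv₀'⟩ := h.moved
  obtain ⟨x, hx⟩ := h.exists_outside
  set A₀ := A ⊓ M.normalCore with hA₀
  set R := (T : Subgroup P) ⊓ M.normalCore with hR
  haveI hRn : R.Normal := h.normal_inf_core
  have hA₀R : A₀ ≤ R := inf_le_inf h.hAT le_rfl
  by_contra hne
  have hne' : A₀ ≠ A := by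
    intro he
    have hAc : A ≤ M.normalCore := he ▸ inf_le_right
    refine h.coatom.1 (top_le_iff.1 (h.gen x hx ▸ sup_le (hAc.trans M.normalCore_le) ?_))
    rintro _ ⟨a, ha, rfl⟩
    exact M.normalCore_le (M.normalCore_normal.conj_mem a (hAc ha) x)
  refine absurd (h.strict A₀ inf_le_left hne hne') (not_lt.2 ?_)
  set Z := fixA φ R with hZ
  have hZinv : ∀ g v, v ∈ Z → φ g v ∈ Z := by
    intro g v hv r hr
    have h1 := hv _ (hRn.conj_mem r hr g⁻¹)
    rw [inv_inv, phi_mul, phi_mul] at h1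
    have h2 := congrArg (φ g) h1
    rwa [phi_cancel_inv] at h2
  set U := fixA φ A
  set U' := fixA φ (cj x A)
  set C₀ := fixA φ (⊤ : Subgroup P)
  set v₁ := φ x v₀
  have hv₁Z : v₁ ∈ Z := hZinv x v₀ fun r hr => hv₀ r hr.1
  have hv₁U : v₁ ∈ U' := by
    rw [mem_fixA_cj, phi_inv_cancel]; exact fun c hc => hv₀ c (h.hAT hc)
  have hv₁C : v₁ ∉ C₀ := fun hc => hv₀' fun k _ => by
    have h1 := hc (x * k * x⁻¹) (mem_top _)
    rw [phi_mul, phi_mul, phi_inv_cancel] at h1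
    have h2 := congrArg (φ x⁻¹) h1
    rwa [phi_inv_cancel, phi_inv_cancel] at h2
  have hCle : C₀ ≤ U ⊓ Z := le_inf (h.fixA_top_le A) (h.fixA_top_le R)
  let f : Additive A →+ ↥(U ⊓ Z) ⧸ C₀.addSubgroupOf (U ⊓ Z) :=
    AddMonoidHom.mk' (fun a => QuotientAddGroup.mk
      ⟨dd φ (Additive.toMul a : A).1 v₁, h.dd_mem _ (Additive.toMul a).2 _,
        Z.sub_mem (hZinv _ _ hv₁Z) hv₁Z⟩) fun a b => by
      rw [← QuotientAddGroup.mk_add]
      exact congrArg QuotientAddGroup.mk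
        (Subtype.ext (h.dd_mul (Additive.toMul a).2 (Additive.toMul b).2 v₁))
  have hker : Nat.card f.ker ≤ Nat.card A₀ := by
    refine Nat.card_le_card_of_injective (fun a => ⟨(Additive.toMul a.1 : A).1, (Additive.toMul a.1).2,
      by_contra fun hac => hv₁C (h.conj_notMem_inj hx (Additive.toMul a.1).2
        (h.cj_notMem (Additive.toMul a.1).2 hac hx) hv₁U ?_)⟩) fun a b hab => ?_
    · have h1 := a.2
      rw [AddMonoidHom.mem_ker, AddMonoidHom.mk'_apply, QuotientAddGroup.eq_zero_iff,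
        AddSubgroup.mem_addSubgroupOf] at h1
      exact h1
    · exact Subtype.ext (Additive.toMul.injective (Subtype.ext (congrArg Subtype.val hab :)))
  set q := Nat.card (↥(U ⊓ Z) ⧸ C₀.addSubgroupOf (U ⊓ Z))
  have hcardA : Nat.card A ≤ Nat.card A₀ * q := by
    rw [← Nat.card_congr (Additive.ofMul (α := A)).symm,
      AddSubgroup.card_eq_card_quotient_mul_card_addSubgroup f.ker,
      Nat.card_congr (QuotientAddGroup.quotientKerEquivRange f).toEquiv, mul_comm]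
    exact Nat.mul_le_mul hker (Nat.card_le_card_of_injective _ Subtype.val_injective)
  have hUZ : Nat.card ↥(U ⊓ Z) = q * Nat.card C₀ := by
    rw [AddSubgroup.card_eq_card_quotient_mul_card_addSubgroup (C₀.addSubgroupOf (U ⊓ Z)),
      Nat.card_congr (AddSubgroup.addSubgroupOfEquivOfLe hCle).toEquiv]
  have hinf : U ⊓ (U' ⊓ Z) = C₀ := le_antisymm (fun v hv => h.fix_inter hx hv.1 hv.2.1)
    (le_inf (h.fixA_top_le A) (le_inf (h.fixA_top_le _) (h.fixA_top_le R)))
  have hsum := card_sup_mul_card_inf U (U' ⊓ Z)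
  rw [hinf, card_fix_cj x A Z hZinv, hUZ] at hsum
  have hle : U ⊔ U' ⊓ Z ≤ fixA φ A₀ := sup_le (fun v hv a ha => hv a ha.1)
    fun v hv a ha => hv.2 a (hA₀R ha)
  refine Nat.le_of_mul_le_mul_right ?_ (Nat.card_pos (α := C₀))
  calc Nat.card A * Nat.card U * Nat.card C₀ ≤ Nat.card A₀ * q * Nat.card U * Nat.card C₀ := by
        gcongr
    _ = Nat.card A₀ * (Nat.card ↥(U ⊔ U' ⊓ Z) * Nat.card C₀) := by rw [hsum]; ring
    _ ≤ Nat.card A₀ * (Nat.card (fixA φ A₀) * Nat.card C₀) := Nat.mul_le_mul_left _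
        (Nat.mul_le_mul_right _ (Nat.card_le_card_of_injective _
          (AddSubgroup.inclusion_injective hle)))
    _ = _ := by ring

theorem notMem_of_ne_one {a g : P} (ha : a ∈ A) (ha1 : a ≠ 1) (hg : g ∉ M) : g⁻¹ * a * g ∉ M :=
  h.cj_notMem ha (fun hc => ha1 (mem_bot.1 (h.inf_core_eq_bot ▸ mem_inf.2 ⟨ha, hc⟩))) hg

theorem inj_mod {g a : P} (hg : g ∉ M) (ha : a ∈ A) (ha1 : a ≠ 1) {u : V}
    (hu : u ∈ fixA φ (cj g A)) (hd : dd φ a u ∈ fixA φ (⊤ : Subgroup P)) :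
    u ∈ fixA φ (⊤ : Subgroup P) :=
  h.conj_notMem_inj hg ha (h.notMem_of_ne_one ha ha1 hg) hu hd

theorem fix_inf (g : P) (hg : g ∉ M) :
    fixA φ A ⊓ fixA φ (cj g A) = fixA φ (⊤ : Subgroup P) :=
  le_antisymm (fun _ hv => h.fix_inter hg hv.1 hv.2) (le_inf (h.fixA_top_le A) (h.fixA_top_le _))

theorem dd_inj {g : P} (hg : g ∉ M) {u : V} (hu : u ∈ fixA φ (cj g A))
    (hu' : u ∉ fixA φ (⊤ : Subgroup P)) {a b : P} (ha : a ∈ A) (hb : b ∈ A)
    (hd : dd φ a u - dd φ b u ∈ fixA φ (⊤ : Subgroup P)) : a = b := by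
  by_contra hab
  refine hu' (h.inj_mod hg (A.mul_mem ha (A.inv_mem hb))
    (fun he => hab (mul_inv_eq_one.1 he)) hu ?_)
  rwa [h.dd_mul ha (A.inv_mem hb), h.dd_inv hb, ← sub_eq_add_neg]

/-- `|V / U| = |A| = |U / C₀|` and `V = U + U^g` -/
theorem counts {g : P} (hg : g ∉ M) :
    Nat.card (fixA φ A) = Nat.card A * Nat.card (fixA φ (⊤ : Subgroup P)) ∧
      fixA φ A ⊔ fixA φ (cj g A) = ⊤ := by
  classical
  obtain ⟨v₀, hv₀, hv₀'⟩ := h.moved
  set U := fixA φ A
  set C₀ := fixA φ (⊤ : Subgroup P)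
  set U' := fixA φ (cj g A)
  set v₁ := φ g v₀
  have hv₁U : v₁ ∈ U' := by
    rw [mem_fixA_cj, phi_inv_cancel]; exact fun c hc => hv₀ c (h.hAT hc)
  have hv₁C : v₁ ∉ C₀ := fun hc => hv₀' fun k _ => by
    have h1 := hc (g * k * g⁻¹) (mem_top _)
    rw [phi_mul, phi_mul, phi_inv_cancel] at h1
    have h2 := congrArg (φ g⁻¹) h1
    rwa [phi_inv_cancel, phi_inv_cancel] at h2
  have hle : Nat.card A * Nat.card C₀ ≤ Nat.card U := by
    rw [← Nat.card_prod]
    refine Nat.card_le_card_of_injective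
      (fun q => (⟨dd φ (q.1 : P) v₁ + q.2, U.add_mem (h.dd_mem _ q.1.2 _)
        (h.fixA_top_le A q.2.2)⟩ : U)) fun q r hqr => ?_
    have h1 : dd φ (q.1 : P) v₁ + q.2 = dd φ (r.1 : P) v₁ + r.2 := congrArg Subtype.val hqr
    have h2 : q.1 = r.1 := Subtype.ext (h.dd_inj hg hv₁U hv₁C q.1.2 r.1.2 (by
      rw [show dd φ (q.1 : P) v₁ - dd φ (r.1 : P) v₁ = (r.2 : V) - q.2 by
        rw [eq_sub_of_add_eq h1]; abel]
      exact C₀.sub_mem r.2.2 q.2.2))
    rw [h2] at h1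
    exact Prod.ext h2 (Subtype.ext (add_left_cancel h1))
  have hsum := card_sup_mul_card_inf U U'
  rw [h.fix_inf g hg] at hsum
  have hU' : Nat.card U' = Nat.card U := by
    have := card_fix_cj g A (⊤ : AddSubgroup V) (φ := φ) fun _ _ _ => AddSubgroup.mem_top _
    simpa [U, U'] using this
  have hV : Nat.card ↥(U ⊔ U') ≤ Nat.card V :=
    Nat.card_le_card_of_injective _ Subtype.val_injective
  have hoff := h.off
  rw [hU'] at hsum
  have hpos : 0 < Nat.card U := Nat.card_pos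
  have h2 : Nat.card U * Nat.card U ≤ Nat.card A * Nat.card C₀ * Nat.card U := by
    calc Nat.card U * Nat.card U = Nat.card ↥(U ⊔ U') * Nat.card C₀ := hsum.symm
      _ ≤ Nat.card V * Nat.card C₀ := Nat.mul_le_mul_right _ hV
      _ ≤ Nat.card A * Nat.card U * Nat.card C₀ := Nat.mul_le_mul_right _ hoff
      _ = _ := by ring
  have heq : Nat.card U = Nat.card A * Nat.card C₀ :=
    le_antisymm (Nat.le_of_mul_le_mul_right h2 hpos) hle
  refine ⟨heq, AddSubgroup.eq_top_of_le_card _ ?_⟩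
  refine Nat.le_of_mul_le_mul_right ?_ (Nat.card_pos (α := C₀))
  rw [hsum]
  calc Nat.card V * Nat.card C₀ ≤ Nat.card A * Nat.card U * Nat.card C₀ :=
        Nat.mul_le_mul_right _ hoff
    _ = _ := by rw [heq]; ring

/-- every vector outside `U` lies in exactly the translates of `U'` -/
theorem mem_translate {g : P} (hg : g ∉ M) {v : V} (hv : v ∉ fixA φ A) :
    ∃ a ∈ A, v ∈ fixA φ (cj (a * g) A) := by
  classical
  obtain ⟨hU, htop⟩ := h.counts hg
  set U := fixA φ A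
  set C₀ := fixA φ (⊤ : Subgroup P)
  obtain ⟨u, hu, u', hu', huv⟩ := AddSubgroup.mem_sup.1
    (htop ▸ AddSubgroup.mem_top v : v ∈ U ⊔ fixA φ (cj g A))
  have hu'C : u' ∉ C₀ := fun hc => hv (huv ▸ U.add_mem hu (h.fixA_top_le A hc))
  let f : A × C₀ → U := fun q => ⟨dd φ (q.1 : P) u' + q.2,
    U.add_mem (h.dd_mem _ q.1.2 _) (h.fixA_top_le A q.2.2)⟩
  have hf : Function.Injective f := fun q r hqr => by
    have h1 : dd φ (q.1 : P) u' + q.2 = dd φ (r.1 : P) u' + r.2 := congrArg Subtype.val hqr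
    have h2 : q.1 = r.1 := Subtype.ext (h.dd_inj hg hu' hu'C q.1.2 r.1.2 (by
      rw [show dd φ (q.1 : P) u' - dd φ (r.1 : P) u' = (r.2 : V) - q.2 by
        rw [eq_sub_of_add_eq h1]; abel]
      exact C₀.sub_mem r.2.2 q.2.2))
    rw [h2] at h1
    exact Prod.ext h2 (Subtype.ext (add_left_cancel h1))
  have hbij := (Nat.bijective_iff_injective_and_card f).2
    ⟨hf, by rw [Nat.card_prod, hU]⟩
  obtain ⟨⟨a, c⟩, hac⟩ := hbij.2 ⟨u, hu⟩
  have hac' : dd φ (a : P) u' + c = u := congrArg Subtype.val hac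
  refine ⟨a, a.2, ?_⟩
  rw [mem_fixA_cj, mul_inv_rev, phi_mul]
  have e : φ (a : P)⁻¹ v = u' + c := by
    have h1 : v = φ (a : P) (u' + c) := by
      rw [map_add, c.2 a (mem_top _), ← huv, ← hac', dd_apply]; abel
    rw [h1, phi_inv_cancel]
  rw [e, map_add]
  refine (fixA φ A).add_mem (mem_fixA_cj.1 hu') ?_
  exact mem_fixA_cj.1 (h.fixA_top_le (cj g A) c.2)

/-- `M` stabilises the fixed space -/
theorem stable {m : P} (hm : m ∈ M) {v : V} (hv : v ∈ fixA φ A) : φ m v ∈ fixA φ A := by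
  by_contra hout
  obtain ⟨x, hx⟩ := h.exists_outside
  obtain ⟨a, ha, hmem⟩ := h.mem_translate hx hout
  have haM : a ∈ M := h.hTM (h.hAT ha)
  have hgM : m⁻¹ * (a * x) ∉ M := fun hc => hx (by
    simpa [mul_assoc] using M.mul_mem (M.mul_mem (M.inv_mem haM) hm) hc)
  rw [mem_fixA_cj, ← phi_mul] at hmem
  have h2 := h.fix_inter hgM hv (mem_fixA_cj.2 (by
    rwa [show (m⁻¹ * (a * x))⁻¹ = (a * x)⁻¹ * m by group]))
  refine hout fun c _ => ?_
  rw [h2 m (mem_top _)]
  exact h2 c (mem_top _)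

/-- every conjugate fixed space is `U` or a translate of `U'` -/
theorem translate_eq {g x : P} (hg : g ∉ M) (hx : x ∉ M) :
    ∃ a ∈ A, fixA φ (cj g A) = fixA φ (cj (a * x) A) := by
  obtain ⟨v₀, hv₀, hv₀'⟩ := h.moved
  have hw : φ g v₀ ∈ fixA φ (cj g A) := by
    rw [mem_fixA_cj, phi_inv_cancel]; exact fun c hc => hv₀ c (h.hAT hc)
  have hwC : φ g v₀ ∉ fixA φ (⊤ : Subgroup P) := fun hc => hv₀' fun k _ => by
    have h1 := hc (g * k * g⁻¹) (mem_top _)
    rw [phi_mul, phi_mul, phi_inv_cancel] at h1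
    have h2 := congrArg (φ g⁻¹) h1
    rwa [phi_inv_cancel, phi_inv_cancel] at h2
  obtain ⟨a, ha, hmem⟩ := h.mem_translate hx fun hU => hwC (h.fix_inter hg hU hw)
  refine ⟨a, ha, ?_⟩
  have hk : g⁻¹ * (a * x) ∈ M := by
    by_contra hk
    apply hwC
    have h1 := mem_fixA_cj.1 hw
    rw [mem_fixA_cj] at hmem
    rw [phi_inv_cancel] at h1
    have h2 := h.fix_inter hk h1 (mem_fixA_cj.2 (by
      rw [← phi_mul] at hmem
      rwa [show (g⁻¹ * (a * x))⁻¹ = (a * x)⁻¹ * g by group]))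
    intro c _
    have h3 := h2 (g⁻¹ * c * g) (mem_top _)
    rw [phi_mul, phi_mul] at h3
    have h4 := congrArg (φ g) h3
    rwa [phi_cancel_inv] at h4
  ext v
  rw [mem_fixA_cj, mem_fixA_cj]
  constructor
  · intro hv
    have h1 := h.stable (M.inv_mem hk) hv
    rwa [← phi_mul, show (g⁻¹ * (a * x))⁻¹ * g⁻¹ = (a * x)⁻¹ by group] at h1
  · intro hv
    have h1 := h.stable hk hv
    rwa [← phi_mul, show g⁻¹ * (a * x) * (a * x)⁻¹ = g⁻¹ by group] at h1

/-- the kernel on `V / C₀` is trivial -/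
theorem eq_one_of_trivial {g : P} (hg : ∀ v, dd φ g v ∈ fixA φ (⊤ : Subgroup P)) : g = 1 := by
  classical
  set C₀ := fixA φ (⊤ : Subgroup P)
  obtain ⟨v₀, hv₀, hv₀'⟩ := h.moved
  let Q : Subgroup P :=
    { carrier := {g | ∀ v, dd φ g v ∈ C₀}
      one_mem' := fun v => by rw [dd_apply, phi_one, sub_self]; exact C₀.zero_mem
      mul_mem' := fun {a b} ha hb v => by
        rw [show dd φ (a * b) v = dd φ a (φ b v) + dd φ b v by
          rw [dd_apply, dd_apply, dd_apply, phi_mul]; abel]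
        exact C₀.add_mem (ha _) (hb _)
      inv_mem' := fun {a} ha v => by
        rw [show dd φ a⁻¹ v = -dd φ a (φ a⁻¹ v) by rw [dd_apply, dd_apply, phi_cancel_inv, neg_sub]]
        exact C₀.neg_mem (ha _) }
  have hCinv : ∀ k c, c ∈ C₀ → φ k c = c := fun k c hc => hc k (mem_top k)
  haveI hQn : Q.Normal := ⟨fun a ha k v => by
    rw [dd_cj, hCinv k _ (ha _)]; exact ha _⟩
  have hQp : IsPGroup p Q := by
    intro a
    refine ⟨1, Subtype.ext (h.inj (DFunLike.ext (F := AddMonoid.End V) _ _ fun (v : V) => ?_))⟩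
    have key : ∀ n : ℕ, φ ((a : P) ^ n) v = v + n • dd φ (a : P) v := by
      intro n
      induction n with
      | zero => rw [pow_zero, phi_one, zero_smul, add_zero]
      | succ n ih =>
        rw [pow_succ', phi_mul, ih, map_add, map_nsmul, hCinv (a : P) _ (a.2 v),
          show φ (a : P) v = v + dd φ (a : P) v by rw [dd_apply]; abel, succ_nsmul]
        abel
    rw [pow_one, SubmonoidClass.coe_pow, key p, h.char, add_zero]
    exact (phi_one v).symm
  obtain ⟨T', hT'⟩ := hQp.exists_le_sylow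
  obtain ⟨k, hk⟩ := MulAction.exists_smul_eq P T' T
  have hQT : Q ≤ (T : Subgroup P) := by
    intro a ha
    rw [← hk, Sylow.coe_subgroup_smul, Subgroup.mem_pointwise_smul_iff_inv_smul_mem]
    refine hT' ?_
    simpa [MulAut.smul_def] using hQn.conj_mem a ha k⁻¹
  -- vectors fixed by `Q`
  let Y := fixA φ Q
  have hYinv : ∀ k v, v ∈ Y → φ k v ∈ Y := by
    intro k v hv r hr
    have h1 := hv _ (hQn.conj_mem r hr k⁻¹)
    rw [inv_inv, phi_mul, phi_mul] at h1
    have h2 := congrArg (φ k) h1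
    rwa [phi_cancel_inv] at h2
  obtain ⟨x, hx⟩ := h.exists_outside
  have hv₀Y : v₀ ∈ Y := fun r hr => hv₀ r (hQT hr)
  set v₁ := φ x v₀
  have hv₁U : v₁ ∈ fixA φ (cj x A) := by
    rw [mem_fixA_cj, phi_inv_cancel]; exact fun c hc => hv₀ c (h.hAT hc)
  have hv₁C : v₁ ∉ C₀ := fun hc => hv₀' fun k _ => by
    have h1 := hc (x * k * x⁻¹) (mem_top _)
    rw [phi_mul, phi_mul, phi_inv_cancel] at h1
    have h2 := congrArg (φ x⁻¹) h1
    rwa [phi_inv_cancel, phi_inv_cancel] at h2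
  have hUY : fixA φ A ≤ Y := by
    intro u hu
    let f : A × C₀ → fixA φ A := fun q => ⟨dd φ (q.1 : P) v₁ + q.2,
      (fixA φ A).add_mem (h.dd_mem _ q.1.2 _) (h.fixA_top_le A q.2.2)⟩
    have hf : Function.Injective f := fun q r hqr => by
      have h1 : dd φ (q.1 : P) v₁ + q.2 = dd φ (r.1 : P) v₁ + r.2 := congrArg Subtype.val hqr
      have h2 : q.1 = r.1 := Subtype.ext (h.dd_inj hx hv₁U hv₁C q.1.2 r.1.2 (by
        rw [show dd φ (q.1 : P) v₁ - dd φ (r.1 : P) v₁ = (r.2 : V) - q.2 by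
          rw [eq_sub_of_add_eq h1]; abel]
        exact C₀.sub_mem r.2.2 q.2.2))
      rw [h2] at h1
      exact Prod.ext h2 (Subtype.ext (add_left_cancel h1))
    obtain ⟨⟨a, c⟩, hac⟩ := ((Nat.bijective_iff_injective_and_card f).2
      ⟨hf, by rw [Nat.card_prod, (h.counts hx).1]⟩).2 ⟨u, hu⟩
    have hac' : dd φ (a : P) v₁ + c = u := congrArg Subtype.val hac
    rw [← hac']
    exact Y.add_mem (Y.sub_mem (hYinv _ _ (hYinv _ _ hv₀Y)) (hYinv _ _ hv₀Y))
      (h.fixA_top_le Q c.2)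
  have hU'Y : fixA φ (cj x A) ≤ Y := fun u hu => by
    have h1 := hYinv x _ (hUY (mem_fixA_cj.1 hu))
    rwa [phi_cancel_inv] at h1
  refine h.inj (DFunLike.ext (F := AddMonoid.End V) _ _ fun (v : V) => ?_)
  rw [show φ (1 : P) v = v from phi_one v]
  exact (sup_le hUY hU'Y) ((h.counts hx).2 ▸ AddSubgroup.mem_top v) g hg

end Hyp

end Cfsg.Lib.FFSLTwo
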