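import Mathlib

/-!
A unital Jordan subspace of square matrices over a finite field, of dimension equal to the size
of the matrices and all of whose nonzero members are invertible, is commutative.
-/

set_option autoImplicit false

namespace Cfsg.Lib.FFSLTwo

open Polynomial Matrix

variable {n : ℕ} {F : Type*} [Field F]

theorem totalDegree_charpoly_symm (M : Matrix (Fin n) (Fin n) (MvPolynomial (Fin n) F))
    (hM : ∀ i j, (M i j).totalDegree ≤ 1) :
    ((MvPolynomial.finSuccEquiv F n).symm M.charpoly).totalDegree ≤ n := by
  classical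
  have hren : ∀ f : MvPolynomial (Fin n) F,
      (MvPolynomial.finSuccEquiv F n).symm (Polynomial.C f) = MvPolynomial.rename Fin.succ f := by
    intro f
    rw [AlgEquiv.symm_apply_eq]
    induction f using MvPolynomial.induction_on with
    | C a => simp [MvPolynomial.finSuccEquiv_apply]
    | add p q hp hq => rw [map_add, map_add, hp, hq, map_add]
    | mul_X p i hp => rw [map_mul, map_mul, hp, MvPolynomial.rename_X, map_mul, MvPolynomial.finSuccEquiv_X_succ]
  have hX : (MvPolynomial.finSuccEquiv F n).symm Polynomial.X = MvPolynomial.X 0 := by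
    rw [AlgEquiv.symm_apply_eq, MvPolynomial.finSuccEquiv_X_zero]
  rw [Matrix.charpoly, Matrix.det_apply', map_sum]
  refine (MvPolynomial.totalDegree_finset_sum _ _).trans (Finset.sup_le fun σ _ => ?_)
  rw [map_mul, map_intCast, map_prod]
  refine (MvPolynomial.totalDegree_mul _ _).trans ?_
  rw [show MvPolynomial.totalDegree ((((Equiv.Perm.sign σ : ℤˣ) : ℤ)) : MvPolynomial (Fin (n + 1)) F) = 0 by
    rw [← map_intCast (MvPolynomial.C : F →+* MvPolynomial (Fin (n + 1)) F), MvPolynomial.totalDegree_C], zero_add]
  refine (MvPolynomial.totalDegree_finset_prod _ _).trans ?_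
  calc ∑ i, MvPolynomial.totalDegree ((MvPolynomial.finSuccEquiv F n).symm (M.charmatrix (σ i) i))
      ≤ ∑ _i : Fin n, 1 := Finset.sum_le_sum fun i _ => by
        by_cases h : σ i = i
        · rw [h, charmatrix_apply_eq, map_sub, hX, hren]
          refine (MvPolynomial.totalDegree_sub _ _).trans (max_le ?_ ?_)
          · rw [MvPolynomial.totalDegree_X]
          · exact (MvPolynomial.totalDegree_rename_le _ _).trans (hM _ _)
        · rw [charmatrix_apply_ne _ _ _ h, map_neg, hren, MvPolynomial.totalDegree_neg]
          exact (MvPolynomial.totalDegree_rename_le _ _).trans (hM _ _)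
    _ = n := by simp

/-- a monic factor of a polynomial of total degree `n` has constant term of small degree -/
theorem totalDegree_coeff_zero_le {μ ν : Polynomial (MvPolynomial (Fin n) F)} (hμ : μ.Monic)
    (hν : ν.Monic) {m : ℕ} (hm : μ.natDegree + ν.natDegree = m)
    (h : ((MvPolynomial.finSuccEquiv F n).symm (μ * ν)).totalDegree ≤ m) :
    (μ.coeff 0).totalDegree ≤ μ.natDegree := by
  have hne : ∀ {f : Polynomial (MvPolynomial (Fin n) F)}, f.Monic → (MvPolynomial.finSuccEquiv F n).symm f ≠ 0 := fun hf h0 =>
    hf.ne_zero (by simpa using congrArg (MvPolynomial.finSuccEquiv F n) h0)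
  rw [map_mul, MvPolynomial.totalDegree_mul_of_isDomain (hne hμ) (hne hν)] at h
  have hlow : ν.natDegree ≤ ((MvPolynomial.finSuccEquiv F n).symm ν).totalDegree := by
    have h1 := MvPolynomial.totalDegree_coeff_finSuccEquiv_add_le ((MvPolynomial.finSuccEquiv F n).symm ν) ν.natDegree
      (by simp [hν.ne_zero])
    simp only [AlgEquiv.apply_symm_apply] at h1
    omega
  by_cases h0 : μ.coeff 0 = 0
  · rw [h0, MvPolynomial.totalDegree_zero]; exact Nat.zero_le _
  have h1 := MvPolynomial.totalDegree_coeff_finSuccEquiv_add_le ((MvPolynomial.finSuccEquiv F n).symm μ) 0 (by simpa using h0)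
  simp only [AlgEquiv.apply_symm_apply] at h1
  omega

/-- symmetrised membership -/
theorem sum_sum_mem {R M ι : Type*} [CommRing R] [AddCommGroup M] [Module R M] (W : Submodule R M)
    (T : ι → ι → M) (c : ι → R) (h1 : ∀ i, T i i ∈ W) (h2 : ∀ i j, T i j + T j i ∈ W)
    (s : Finset ι) : ∑ i ∈ s, ∑ j ∈ s, (c i * c j) • T i j ∈ W := by
  classical
  induction s using Finset.induction with
  | empty => simp
  | insert a s ha ih =>
    have e : ∑ i ∈ insert a s, ∑ j ∈ insert a s, (c i * c j) • T i j =
        (c a * c a) • T a a + ∑ j ∈ s, (c a * c j) • (T a j + T j a)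
          + ∑ i ∈ s, ∑ j ∈ s, (c i * c j) • T i j := by
      simp only [Finset.sum_insert ha, Finset.sum_add_distrib, smul_add]
      rw [Finset.sum_congr rfl (fun i _ => by rw [mul_comm (c a) (c i)] :
        ∀ i ∈ s, (c a * c i) • T i a = (c i * c a) • T i a)]
      abel
    rw [e]
    exact W.add_mem (W.add_mem (W.smul_mem _ (h1 a))
      (W.sum_mem fun j _ => W.smul_mem _ (h2 a j))) ih

theorem jordan_division_commute [Fintype F] (S : Fin n → Matrix (Fin n) (Fin n) F)
    (h1 : (1 : Matrix (Fin n) (Fin n) F) ∈ Submodule.span F (Set.range S))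
    (hsq : ∀ a ∈ Submodule.span F (Set.range S), a * a ∈ Submodule.span F (Set.range S))
    (haba : ∀ a ∈ Submodule.span F (Set.range S), ∀ b ∈ Submodule.span F (Set.range S),
      a * b * a ∈ Submodule.span F (Set.range S))
    (hdet : ∀ c : Fin n → F, c ≠ 0 → (∑ i, c i • S i).det ≠ 0) :
    ∀ i j, S i * S j = S j * S i := by
  classical
  rcases Nat.eq_zero_or_pos n with hn | hn
  · intro i; subst hn; exact i.elim0
  haveI : Nonempty (Fin n) := ⟨⟨0, hn⟩⟩
  set R := MvPolynomial (Fin n) F
  let M : Matrix (Fin n) (Fin n) R :=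
    ∑ i, (MvPolynomial.X i : R) • (S i).map (MvPolynomial.C (σ := Fin n))
  let K := FractionRing R
  let f : R →+* K := algebraMap R K
  have hf : Function.Injective f := IsFractionRing.injective R K
  let g : F →+* K := f.comp MvPolynomial.C
  let G : Matrix (Fin n) (Fin n) F →+* Matrix (Fin n) (Fin n) K := g.mapMatrix
  have hG : Function.Injective G := fun A B h => by
    ext i j
    exact g.injective (congrFun (congrFun h i) j)
  let x : Matrix (Fin n) (Fin n) K := f.mapMatrix M
  let c : Fin n → K := fun i => f (MvPolynomial.X i)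
  have hx : x = ∑ i, c i • G (S i) := by
    ext a b
    simp [x, M, c, G, g, Matrix.sum_apply, map_sum]
  -- the powers of the generic element lie in the span
  set W := Submodule.span K (Set.range fun i => G (S i)) with hW
  have hGW : ∀ a ∈ Submodule.span F (Set.range S), G a ∈ W := by
    intro a ha
    induction ha using Submodule.span_induction with
    | mem y hy => obtain ⟨i, rfl⟩ := hy; exact Submodule.subset_span ⟨i, rfl⟩
    | zero => rw [map_zero]; exact W.zero_mem
    | add y z _ _ hy hz => rw [map_add]; exact W.add_mem hy hz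
    | smul r y _ hy =>
      have e : G (r • y) = g r • G y := by ext i j; simp [G]
      rw [e]; exact W.smul_mem _ hy
  have hS : ∀ i, S i ∈ Submodule.span F (Set.range S) := fun i => Submodule.subset_span ⟨i, rfl⟩
  have hxW : x ∈ W := hx ▸ W.sum_mem fun i _ => W.smul_mem _ (Submodule.subset_span ⟨i, rfl⟩)
  have hxyx : ∀ y ∈ W, x * y * x ∈ W := by
    intro y hy
    induction hy using Submodule.span_induction with
    | mem y hy =>
      obtain ⟨k, rfl⟩ := hy
      have e : x * G (S k) * x = ∑ i, ∑ j, (c i * c j) • G (S i * S k * S j) := by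
        rw [hx]
        simp only [map_mul, Finset.sum_mul, Finset.mul_sum, Matrix.smul_mul, Matrix.mul_smul,
          smul_smul]
        rw [Finset.sum_comm]
        refine Finset.sum_congr rfl fun i _ => Finset.sum_congr rfl fun j _ => ?_
        rw [mul_comm (c i) (c j)]
      rw [e]
      refine sum_sum_mem W _ c (fun i => hGW _ (haba _ (hS i) _ (hS k))) (fun i j => ?_) _
      rw [← map_add]
      refine hGW _ ?_
      rw [show S i * S k * S j + S j * S k * S i =
        (S i + S j) * S k * (S i + S j) - S i * S k * S i - S j * S k * S j by noncomm_ring]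
      exact Submodule.sub_mem _ (Submodule.sub_mem _ (haba _ (Submodule.add_mem _ (hS i) (hS j)) _ (hS k))
        (haba _ (hS i) _ (hS k))) (haba _ (hS j) _ (hS k))
    | zero => simp
    | add y z _ _ hy hz => rw [mul_add, add_mul]; exact W.add_mem hy hz
    | smul r y _ hy => rw [Matrix.mul_smul, Matrix.smul_mul]; exact W.smul_mem _ hy
  have hpow : ∀ m : ℕ, x ^ m ∈ W := by
    intro m
    induction m using Nat.strong_induction_on with
    | _ m ih =>
      match m with
      | 0 => rw [pow_zero, ← map_one G]; exact hGW _ h1
      | 1 => rw [pow_one]; exact hxW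
      | m + 2 => rw [pow_succ, pow_succ']; exact hxyx _ (ih m (by omega))
  -- the minimal polynomial has full degree
  have hxint : IsIntegral K x := Algebra.IsIntegral.isIntegral x
  have hdeg : n ≤ (minpoly K x).natDegree := by
    by_contra hlt
    rw [not_le] at hlt
    have hdvd : minpoly K x ∣ M.charpoly.map f := by
      rw [← Matrix.charpoly_map]; exact Matrix.minpoly_dvd_charpoly x
    obtain ⟨μ, hμ⟩ := IsIntegrallyClosed.eq_map_mul_C_of_dvd K M.charpoly_monic hdvd
    rw [(minpoly.monic hxint).leadingCoeff, map_one, mul_one] at hμ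
    have hμm : μ.Monic := Polynomial.monic_of_injective hf (hμ ▸ minpoly.monic hxint)
    have hμdeg : μ.natDegree = (minpoly K x).natDegree := by
      rw [← hμ, Polynomial.natDegree_map_eq_of_injective hf]
    obtain ⟨ν, hν⟩ : μ ∣ M.charpoly := by
      refine (Polynomial.map_dvd_map f hf hμm).1 ?_
      rw [show μ.map f = minpoly K x from hμ]; exact hdvd
    have hνm : ν.Monic := Polynomial.Monic.of_mul_monic_left hμm (hν ▸ M.charpoly_monic)
    have hdM : ∀ a b, (M a b).totalDegree ≤ 1 := by
      intro a b
      simp only [M, Matrix.sum_apply, Matrix.smul_apply, Matrix.map_apply, smul_eq_mul]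
      refine (MvPolynomial.totalDegree_finset_sum _ _).trans (Finset.sup_le fun i _ => ?_)
      refine (MvPolynomial.totalDegree_mul _ _).trans ?_
      simp
    have hN : (μ.coeff 0).totalDegree < Fintype.card (Fin n) := by
      rw [Fintype.card_fin]
      refine lt_of_le_of_lt (totalDegree_coeff_zero_le hμm hνm (m := n) ?_ ?_) (hμdeg ▸ hlt)
      · rw [← hμm.natDegree_mul hνm, ← hν, Matrix.charpoly_natDegree_eq_dim, Fintype.card_fin]
      · rw [← hν]; exact totalDegree_charpoly_symm M hdM
    -- values of the constant term
    have hchar : ∀ d : Fin n → F, M.charpoly.map (MvPolynomial.eval d) = (∑ i, d i • S i).charpoly := by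
      intro d
      rw [← Matrix.charpoly_map]
      congr 1
      ext a b
      simp [M, Matrix.sum_apply, map_sum]
    have hzero : ∀ d : Fin n → F, MvPolynomial.eval d (μ.coeff 0) = 0 ↔ d = 0 := by
      intro d
      have hmul := congrArg (fun P => P.map (MvPolynomial.eval d)) hν
      simp only [Polynomial.map_mul, hchar] at hmul
      rw [← Polynomial.coeff_map]
      constructor
      · intro h0
        by_contra hd
        have h2 := congrArg (fun P : Polynomial F => P.coeff 0) hmul
        simp only [Polynomial.mul_coeff_zero, h0, zero_mul] at h2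
        refine hdet d hd ?_
        rw [Matrix.det_eq_sign_charpoly_coeff, h2, mul_zero]
      · rintro rfl
        rw [show (∑ i, (0 : Fin n → F) i • S i) = 0 by simp, Matrix.charpoly_zero] at hmul
        have hdvd' : μ.map (MvPolynomial.eval (0 : Fin n → F)) ∣ Polynomial.X ^ Fintype.card (Fin n) :=
          ⟨_, hmul⟩
        obtain ⟨i, -, hi⟩ := (dvd_prime_pow Polynomial.prime_X _).1 hdvd'
        have heq := Polynomial.eq_of_monic_of_associated (hμm.map _) (Polynomial.monic_X_pow i) hi
        have hi0 : i ≠ 0 := by
          intro h0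
          have := congrArg Polynomial.natDegree heq
          rw [hμm.natDegree_map, h0, pow_zero, Polynomial.natDegree_one, hμdeg] at this
          exact absurd this (minpoly.natDegree_pos hxint).ne'
        rw [heq, Polynomial.coeff_X_pow, if_neg (Ne.symm hi0)]
    obtain ⟨p, hp⟩ := CharP.exists F
    have hpp : p.Prime := (CharP.char_is_prime_or_zero F p).resolve_right (CharP.char_ne_zero_of_finite F p)
    have hdvdc := char_dvd_card_solutions p hN
    have hcard : Fintype.card {d : Fin n → F // MvPolynomial.eval d (μ.coeff 0) = 0} = 1 :=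
      Fintype.card_eq_one_iff.2 ⟨⟨0, (hzero 0).2 rfl⟩, fun y => Subtype.ext ((hzero _).1 y.2)⟩
    rw [hcard] at hdvdc
    exact hpp.one_lt.ne' (Nat.dvd_one.1 hdvdc)
  -- hence the span is the commutative algebra generated by the generic element
  have hind : LinearIndependent K fun i : Fin n => x ^ (i : ℕ) :=
    (linearIndependent_pow (K := K) x).comp (Fin.castLE hdeg) (Fin.castLE_injective hdeg)
  have hfr : Module.finrank K W ≤ n := (finrank_range_le_card (R := K) fun i => G (S i)).trans
    (le_of_eq (Fintype.card_fin n))
  set P := Submodule.span K (Set.range fun i : Fin n => x ^ (i : ℕ)) with hP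
  have hPW : P ≤ W := Submodule.span_le.2 (Set.range_subset_iff.2 fun i => hpow i)
  have hPeq : P = W := Submodule.eq_of_le_of_finrank_le hPW (hfr.trans (le_of_eq
    ((finrank_span_eq_card hind).trans (Fintype.card_fin n)).symm))
  have hmem : ∀ i, G (S i) ∈ Algebra.adjoin K {x} := by
    intro i
    have h : G (S i) ∈ P := hPeq ▸ Submodule.subset_span ⟨i, rfl⟩
    exact (Submodule.span_le (p := Subalgebra.toSubmodule (Algebra.adjoin K {x}))).2
      (Set.range_subset_iff.2 fun i => pow_mem (Algebra.self_mem_adjoin_singleton K x) _) h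
  intro i j
  refine hG ?_
  rw [map_mul, map_mul]
  exact Algebra.commute_of_mem_adjoin_singleton_of_commute (hmem j)
    ((Algebra.commute_of_mem_adjoin_singleton_of_commute (hmem i) (Commute.refl x)).symm)

end Cfsg.Lib.FFSLTwo
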