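import Cfsg.Agent.PLocal.FFSLTwo.Setup
import Cfsg.Agent.PLocal.FFSLTwo.JordanDivision
import Cfsg.Agent.RootSub.SL2

/-!
The spread is Desarguesian and the group is `SL₂`.
-/

set_option autoImplicit false
set_option linter.unusedSectionVars false
set_option linter.style.haveILetI false

namespace Cfsg.Lib.FFSLTwo

open Subgroup

theorem exists_mem_ne_one {G : Type*} [Group G] {A : Subgroup G} (h : A ≠ ⊥) :
    ∃ a ∈ A, a ≠ 1 := by
  by_contra hc
  push Not at hc
  exact h ((eq_bot_iff_forall A).2 hc)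

/-- right inverses in a finite ring are left inverses -/
theorem mul_eq_one_comm' {R : Type*} [Monoid R] [Finite R] {a b : R} (h : a * b = 1) : b * a = 1 := by
  obtain ⟨c, hc⟩ := Finite.surjective_of_injective
    (f := fun r => b * r) (fun r s hrs => by
      have := congrArg (fun z => a * z) hrs
      simpa [← mul_assoc, h] using this) 1
  have h1 : b * c = 1 := hc
  calc b * a = b * (a * (b * c)) := by rw [h1, mul_one]
    _ = b * ((a * b) * c) := by rw [mul_assoc a b c]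
    _ = 1 := by rw [h, one_mul, h1]

/-- commutativity of a Jordan division subspace of endomorphisms -/
theorem jordan_end_commute {p : ℕ} [Fact p.Prime] {Q : Type*} [AddCommGroup Q] [Finite Q]
    (hp : ∀ y : Q, p • y = 0) (Sig : AddSubgroup (AddMonoid.End Q))
    (hcard : Nat.card Sig = Nat.card Q) (h1 : (1 : AddMonoid.End Q) ∈ Sig)
    (haba : ∀ a ∈ Sig, ∀ b ∈ Sig, a * b * a ∈ Sig)
    (hinv : ∀ a ∈ Sig, a ≠ 0 → ∃ b, a * b = 1) :
    ∀ a ∈ Sig, ∀ b ∈ Sig, a * b = b * a := by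
  classical
  haveI : Module (ZMod p) Q := AddCommGroup.zmodModule hp
  set n := Module.finrank (ZMod p) Q
  let b : Module.Basis (Fin n) (ZMod p) Q := Module.finBasis (ZMod p) Q
  let e : AddMonoid.End Q →+* Matrix (Fin n) (Fin n) (ZMod p) :=
    { toFun := fun f => LinearMap.toMatrixAlgEquiv b (AddMonoidHom.toZModLinearMap p f)
      map_one' := by
        rw [show AddMonoidHom.toZModLinearMap p (1 : AddMonoid.End Q) = 1 from LinearMap.ext fun v => rfl,
          map_one]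
      map_mul' := fun f g => by
        rw [← map_mul]; exact congrArg _ (LinearMap.ext fun v => rfl)
      map_zero' := by
        rw [show AddMonoidHom.toZModLinearMap p (0 : AddMonoid.End Q) = 0 from LinearMap.ext fun v => rfl,
          map_zero]
      map_add' := fun f g => by
        rw [← map_add]; exact congrArg _ (LinearMap.ext fun v => rfl) }
  have he : Function.Injective e := fun f g hfg =>
    AddMonoidHom.toZModLinearMap_injective p ((LinearMap.toMatrixAlgEquiv b).injective hfg)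
  let W : Submodule (ZMod p) (Matrix (Fin n) (Fin n) (ZMod p)) :=
    AddSubgroup.toZModSubmodule p (Sig.map e.toAddMonoidHom)
  have hW : ∀ x, x ∈ W ↔ ∃ a ∈ Sig, e a = x := fun x => Iff.rfl
  have hWcard : Nat.card W = Nat.card Q := by
    rw [← hcard]
    refine (Nat.card_congr (Equiv.ofBijective (fun a : Sig => (⟨e a, (hW _).2 ⟨a, a.2, rfl⟩⟩ : W))
      ⟨fun a c hac => Subtype.ext (he (congrArg Subtype.val hac)), ?_⟩)).symm
    rintro ⟨y, hy⟩
    obtain ⟨a, ha, rfl⟩ := (hW y).1 hy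
    exact ⟨⟨a, ha⟩, rfl⟩
  have hfin : Module.finrank (ZMod p) W = n := by
    have h2 := Module.natCard_eq_pow_finrank (K := ZMod p) (V := W)
    rw [hWcard, Module.natCard_eq_pow_finrank (K := ZMod p) (V := Q)] at h2
    have hcz : Nat.card (ZMod p) = p := Nat.card_zmod p
    rw [hcz] at h2
    exact (Nat.pow_right_injective (Fact.out : p.Prime).two_le h2).symm
  let B : Module.Basis (Fin n) (ZMod p) W := Module.finBasisOfFinrankEq (ZMod p) W hfin
  let S : Fin n → Matrix (Fin n) (Fin n) (ZMod p) := fun i => (B i : Matrix (Fin n) (Fin n) (ZMod p))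
  have hspan : Submodule.span (ZMod p) (Set.range S) = W := by
    rw [show S = W.subtype ∘ B from rfl, Set.range_comp, Submodule.span_image, B.span_eq,
      Submodule.map_top, Submodule.range_subtype]
  have hcomm := jordan_division_commute S (by rw [hspan]; exact (hW _).2 ⟨1, h1, map_one e⟩)
    (by
      rw [hspan]; intro x hx
      obtain ⟨a, ha, rfl⟩ := (hW x).1 hx
      exact (hW _).2 ⟨a * 1 * a, haba a ha 1 h1, by simp⟩)
    (by
      rw [hspan]; intro x hx y hy
      obtain ⟨a, ha, rfl⟩ := (hW x).1 hx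
      obtain ⟨c, hc, rfl⟩ := (hW y).1 hy
      exact (hW _).2 ⟨a * c * a, haba a ha c hc, by simp⟩)
    (fun c hc => by
      obtain ⟨a, ha, hea⟩ := (hW _).1 (hspan ▸ Submodule.sum_mem _ fun i _ =>
        Submodule.smul_mem _ (c i) (Submodule.subset_span ⟨i, rfl⟩) : ∑ i, c i • S i ∈ W)
      have ha0 : a ≠ 0 := by
        rintro rfl
        rw [map_zero] at hea
        refine hc (funext fun i => ?_)
        have h2 : ∑ i, c i • B i = 0 := by
          refine Subtype.ext ?_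
          rw [Submodule.coe_sum]
          simpa [S] using hea.symm
        exact Fintype.linearIndependent_iff.1 B.linearIndependent c h2 i
      obtain ⟨a', ha'⟩ := hinv a ha ha0
      intro h0
      have h2 := congrArg Matrix.det (congrArg e ha')
      rw [map_mul, map_one, Matrix.det_mul, Matrix.det_one, hea, h0, zero_mul] at h2
      exact zero_ne_one h2)
  intro a ha c hc
  refine he ?_
  rw [map_mul, map_mul]
  have key : ∀ x ∈ Submodule.span (ZMod p) (Set.range S), ∀ y ∈ Submodule.span (ZMod p) (Set.range S),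
      x * y = y * x := by
    intro x hx y hy
    induction hx using Submodule.span_induction with
    | mem x hx =>
      obtain ⟨i, rfl⟩ := hx
      induction hy using Submodule.span_induction with
      | mem y hy => obtain ⟨j, rfl⟩ := hy; exact hcomm i j
      | zero => simp
      | add u v _ _ hu hv => rw [mul_add, add_mul, hu, hv]
      | smul r u _ hu => rw [Matrix.mul_smul, Matrix.smul_mul, hu]
    | zero => simp
    | add u v _ _ hu hv => rw [mul_add, add_mul, hu, hv]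
    | smul r u _ hu => rw [Matrix.mul_smul, Matrix.smul_mul, hu]
  exact key _ (hspan ▸ (hW _).2 ⟨a, ha, rfl⟩) _ (hspan ▸ (hW _).2 ⟨c, hc, rfl⟩)

theorem upEl_mulVec {k : Type*} [Field k] (t a b : k) :
    ((Cfsg.Lib.RootSub.upEl t : Matrix.SpecialLinearGroup (Fin 2) k) :
      Matrix (Fin 2) (Fin 2) k).mulVec ![a, b] = ![a + t * b, b] := by
  ext i
  fin_cases i <;> simp [Cfsg.Lib.RootSub.upEl_coe, Matrix.mulVec, dotProduct, Fin.sum_univ_two]

theorem loEl_mulVec {k : Type*} [Field k] (t a b : k) :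
    ((Cfsg.Lib.RootSub.loEl t : Matrix.SpecialLinearGroup (Fin 2) k) :
      Matrix (Fin 2) (Fin 2) k).mulVec ![a, b] = ![a, b + t * a] := by
  ext i
  fin_cases i
  · simp [Cfsg.Lib.RootSub.loEl_coe, Matrix.mulVec, dotProduct, Fin.sum_univ_two]
  · simp [Cfsg.Lib.RootSub.loEl_coe, Matrix.mulVec, dotProduct, Fin.sum_univ_two]
    ring

/-- a bare copy of `Fin n` -/
def Tag (n : ℕ) : Type := Fin n

/-- two additive groups of endomorphisms which are mutually inverse are one field -/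
theorem exists_field {p : ℕ} [Fact p.Prime] {Q : Type*} [AddCommGroup Q] [Finite Q]
    (hp : ∀ y : Q, p • y = 0) (hQ : 1 < Nat.card Q) (S S' : AddSubgroup (AddMonoid.End Q))
    (hcard : Nat.card S = Nat.card Q) (hcard' : Nat.card S' = Nat.card S)
    (h1 : (1 : AddMonoid.End Q) ∈ S) (hinv : ∀ b ∈ S', b ≠ 0 → ∃ a ∈ S, a * b = 1) :
    S' = S ∧ ∃ (F : Type) (_ : Field F) (_ : Fintype F) (θ : Q ≃+ F) (ι : ↥S ≃+ F),
      Fintype.card F = Nat.card Q ∧ ∀ (a : S) (y : Q), θ ((a : AddMonoid.End Q) y) = ι a * θ y := by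
  classical
  haveI : Nontrivial Q := Finite.one_lt_card_iff_nontrivial.1 hQ
  haveI : Finite (AddMonoid.End Q) :=
    Finite.of_injective (fun f => (f : Q → Q)) DFunLike.coe_injective
  haveI : Nontrivial (AddMonoid.End Q) := by
    obtain ⟨y, hy⟩ := exists_ne (0 : Q)
    exact ⟨1, 0, fun h0 => hy (DFunLike.congr_fun h0 y)⟩
  -- inversion is a bijection between the two groups
  have hinv2 : ∀ a ∈ S, a ≠ 0 → ∃ b ∈ S', a * b = 1 ∧ b * a = 1 := by
    let j : {b : S' // b ≠ 0} → {a : S // a ≠ 0} := fun b =>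
      ⟨⟨(hinv b.1 b.1.2 (fun h0 => b.2 (Subtype.ext h0))).choose,
        (hinv b.1 b.1.2 (fun h0 => b.2 (Subtype.ext h0))).choose_spec.1⟩, fun h0 => by
          have h2 := (hinv b.1 b.1.2 (fun h0 => b.2 (Subtype.ext h0))).choose_spec.2
          have e0 : (hinv b.1 b.1.2 (fun h0 => b.2 (Subtype.ext h0))).choose = 0 :=
            congrArg Subtype.val h0
          rw [e0] at h2
          simp at h2⟩
    have hj : ∀ b, ((j b).1 : AddMonoid.End Q) * (b.1 : AddMonoid.End Q) = 1 := fun b =>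
      (hinv b.1 b.1.2 (fun h0 => b.2 (Subtype.ext h0))).choose_spec.2
    have hji : Function.Injective j := fun b b' h => by
      have e1 := hj b
      have e2 := hj b'
      rw [← h] at e2
      refine Subtype.ext (Subtype.ext ?_)
      calc (b.1 : AddMonoid.End Q) = (b.1 : AddMonoid.End Q) * ((j b).1 * (b'.1 : AddMonoid.End Q)) := by
            rw [e2, mul_one]
        _ = b'.1 := by rw [← mul_assoc, mul_eq_one_comm' e1, one_mul]
    haveI : Fintype S := Fintype.ofFinite _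
    haveI : Fintype S' := Fintype.ofFinite _
    have hjs : Function.Surjective j := ((Nat.bijective_iff_injective_and_card j).2 ⟨hji, by
      rw [Nat.card_eq_fintype_card, Nat.card_eq_fintype_card, Fintype.card_subtype_compl,
        Fintype.card_subtype_compl, Fintype.card_subtype_eq, Fintype.card_subtype_eq,
        ← Nat.card_eq_fintype_card, ← Nat.card_eq_fintype_card, hcard']⟩).2
    intro a ha ha0
    obtain ⟨b, hb⟩ := hjs ⟨⟨a, ha⟩, fun h0 => ha0 (congrArg Subtype.val h0)⟩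
    have h2 := hj b
    rw [hb] at h2
    exact ⟨b.1, b.1.2, h2, mul_eq_one_comm' h2⟩
  have hua : ∀ a ∈ S, ∀ b ∈ S', a * b * a ∈ S := by
    intro a ha b hb
    by_cases ha0 : a = 0
    · simp [ha0]
    by_cases hb0 : b = 0
    · simp [hb0]
    obtain ⟨α, hα, haα, hαa⟩ := hinv2 a ha ha0
    obtain ⟨β, hβ, hβb⟩ := hinv b hb hb0
    have hbβ := mul_eq_one_comm' hβb
    by_cases hd : β - a = 0
    · rw [sub_eq_zero] at hd
      rw [← hd] at ha ⊢
      rwa [hβb, one_mul]
    obtain ⟨γ, hγ, hγ1, hγ2⟩ := hinv2 (β - a) (S.sub_mem hβ ha) hd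
    have hγa : γ * a = γ * β - 1 := by
      rw [← hγ2, mul_sub]; abel
    have hmul : (α + γ) * (a - a * b * a) = 1 := by
      calc (α + γ) * (a - a * b * a)
          = α * a - α * a * b * a + γ * a - γ * a * b * a := by noncomm_ring
        _ = 1 - b * a + γ * a - (γ * (β * b) * a - b * a) := by
          rw [hαa, one_mul]
          congr 1
          rw [hγa]; noncomm_ring
        _ = 1 := by rw [hβb, mul_one]; abel
    have hne : α + γ ≠ 0 := fun h0 => by rw [h0, zero_mul] at hmul; exact zero_ne_one hmul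
    obtain ⟨δ, hδ, hδ1⟩ := hinv (α + γ) (S'.add_mem hα hγ) hne
    have : δ = a - a * b * a := by
      calc δ = δ * ((α + γ) * (a - a * b * a)) := by rw [hmul, mul_one]
        _ = _ := by rw [← mul_assoc, hδ1, one_mul]
    rw [this] at hδ
    simpa using S.sub_mem ha hδ
  have hle : S' ≤ S := fun b hb => by simpa using hua 1 h1 b hb
  have hSS : S' = S := AddSubgroup.eq_of_le_of_card_ge hle hcard'.ge
  refine ⟨hSS, ?_⟩
  subst hSS
  have hinvS : ∀ a ∈ S', a ≠ 0 → ∃ b, a * b = 1 := fun a ha ha0 => by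
    obtain ⟨b, -, hb, -⟩ := hinv2 a ha ha0; exact ⟨b, hb⟩
  have hcm := jordan_end_commute hp S' hcard h1 hua hinvS
  obtain ⟨u₀, hu₀⟩ := exists_ne (0 : Q)
  let ev : S' →+ Q := AddMonoidHom.mk' (fun a => (a : AddMonoid.End Q) u₀) fun a b => rfl
  have hev : Function.Bijective ev := by
    refine (Nat.bijective_iff_injective_and_card _).2 ⟨?_, hcard⟩
    refine (injective_iff_map_eq_zero ev).2 fun a ha => ?_
    by_contra ha0
    obtain ⟨b, -, -, hb⟩ := hinv2 a a.2 (fun h0 => ha0 (Subtype.ext h0))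
    refine hu₀ ?_
    calc u₀ = (b * (a : AddMonoid.End Q)) u₀ := by rw [hb]; rfl
      _ = b ((a : AddMonoid.End Q) u₀) := rfl
      _ = b 0 := congrArg b ha
      _ = 0 := map_zero b
  have hmul : ∀ a ∈ S', ∀ c ∈ S', a * c ∈ S' := by
    intro a ha c hc
    obtain ⟨r, hr⟩ := hev.2 ((a * c) u₀)
    have hr' : (r : AddMonoid.End Q) u₀ = (a * c) u₀ := hr
    suffices a * c = r from this ▸ r.2
    refine DFunLike.ext (F := AddMonoid.End Q) _ _ fun (y : Q) => ?_
    obtain ⟨w, rfl⟩ := hev.2 y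
    show ((a * c) * (w : AddMonoid.End Q)) u₀ = ((r : AddMonoid.End Q) * w) u₀
    rw [mul_assoc, hcm c hc w w.2, ← mul_assoc, hcm a ha w w.2, mul_assoc, hcm r r.2 w w.2]
    exact congrArg (w : AddMonoid.End Q) hr'.symm
  let K : Subring (AddMonoid.End Q) :=
    { carrier := S'
      one_mem' := h1
      mul_mem' := fun ha hc => hmul _ ha _ hc
      zero_mem' := S'.zero_mem
      add_mem' := fun ha hc => S'.add_mem ha hc
      neg_mem' := fun ha => S'.neg_mem ha }
  haveI : Nontrivial K := ⟨1, 0, fun h0 => one_ne_zero (congrArg Subtype.val h0)⟩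
  have hKf : IsField K :=
    { exists_pair_ne := ⟨0, 1, zero_ne_one⟩
      mul_comm := fun a c => Subtype.ext (hcm a a.2 c c.2)
      mul_inv_cancel := fun {a} ha => by
        obtain ⟨b, hb, hab, -⟩ := hinv2 a a.2 (fun h0 => ha (Subtype.ext h0))
        exact ⟨⟨b, hb⟩, Subtype.ext hab⟩ }
  letI : Field K := hKf.toField
  haveI : Finite (Tag (Nat.card K)) := inferInstanceAs (Finite (Fin (Nat.card K)))
  letI : Fintype (Tag (Nat.card K)) := Fintype.ofFinite _
  letI : Field (Tag (Nat.card K)) :=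
    (show Tag (Nat.card K) ≃ K from (Finite.equivFin K).symm).field
  let ιR : K ≃+* Tag (Nat.card K) :=
    (Equiv.ringEquiv (show Tag (Nat.card K) ≃ K from (Finite.equivFin K).symm)).symm
  let evE : S' ≃+ Q := AddEquiv.ofBijective ev hev
  let ι : S' ≃+ Tag (Nat.card K) :=
    { toFun := fun a => ιR ⟨a, a.2⟩
      invFun := fun z => ⟨(ιR.symm z : K), (ιR.symm z).2⟩
      left_inv := fun a => Subtype.ext (by simp)
      right_inv := fun z => ιR.apply_symm_apply z
      map_add' := fun a c => map_add ιR (⟨a, a.2⟩ : K) ⟨c, c.2⟩ }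
  refine ⟨Tag (Nat.card K), inferInstance, inferInstance, evE.symm.trans ι, ι, ?_, ?_⟩
  · rw [← Nat.card_eq_fintype_card]; exact (Nat.card_fin _).trans hcard
  · intro a y
    have key : evE.symm ((a : AddMonoid.End Q) y) =
        ⟨(a : AddMonoid.End Q) * (evE.symm y : AddMonoid.End Q), hmul _ a.2 _ (evE.symm y).2⟩ := by
      refine evE.injective ?_
      rw [AddEquiv.apply_symm_apply]
      conv_lhs => rw [← evE.apply_symm_apply y]
      rfl
    show ι (evE.symm ((a : AddMonoid.End Q) y)) = ι a * ι (evE.symm y)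
    rw [key]
    exact map_mul ιR (⟨a, a.2⟩ : K) ⟨_, (evE.symm y).2⟩

namespace Hyp

variable {P : Type*} [Group P] [Finite P] {V : Type*} [AddCommGroup V] [Finite V]
variable {p : ℕ} [Fact p.Prime] {φ : P →* AddMonoid.End V} {T : Sylow p P} {A M : Subgroup P}

set_option maxHeartbeats 1000000 in
/-- the group is `SL₂` on its natural module, in coordinates adapted to `A` and a conjugate -/
theorem natural_coord (h : Hyp p φ T A M) {x : P} (hx : x ∉ M) :
    ∃ (F : Type) (_ : Field F) (_ : Fintype F) (ρ : P ≃* Matrix.SpecialLinearGroup (Fin 2) F)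
      (Ψ : V →+ (Fin 2 → F)), Fintype.card F = Nat.card A ∧ Function.Surjective Ψ ∧
      (∀ v, Ψ v = 0 ↔ v ∈ fixA φ (⊤ : Subgroup P)) ∧
      (∀ g v, Ψ (φ g v) = ((ρ g : Matrix.SpecialLinearGroup (Fin 2) F) :
        Matrix (Fin 2) (Fin 2) F).mulVec (Ψ v)) ∧
      fixA φ A ≤ AddSubgroup.closure {w | ∃ a ∈ A, ∃ v, dd φ a v = w} ⊔
        fixA φ (⊤ : Subgroup P) ∧
      (∀ v, v ∈ fixA φ A ↔ Ψ v 1 = 0) ∧ (∀ v, v ∈ fixA φ (cj x A) ↔ Ψ v 0 = 0) ∧
      (∀ r, ∃ a ∈ A, ρ a = Cfsg.Lib.RootSub.upEl r) ∧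
      (∀ r, ∃ b ∈ cj x A, ρ b = Cfsg.Lib.RootSub.loEl r) := by
  classical
  obtain ⟨a₁, ha₁, ha₁1⟩ := (exists_mem_ne_one h.ne_bot)
  obtain ⟨hUcard, hUtop⟩ := h.counts hx
  have hfixI := h.fix_inf x hx
  have hC₀U := h.fixA_top_le A
  have hC₀U' := h.fixA_top_le (cj x A)
  set U := fixA φ A
  set U' := fixA φ (cj x A)
  set C₀ := fixA φ (⊤ : Subgroup P)
  let Q := ↥U ⧸ C₀.addSubgroupOf U
  let mkQ : U →+ Q := QuotientAddGroup.mk' _
  have hmk : ∀ u : U, mkQ u = 0 ↔ (u : V) ∈ C₀ := fun u =>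
    (QuotientAddGroup.eq_zero_iff u).trans AddSubgroup.mem_addSubgroupOf
  have hQcard : Nat.card Q = Nat.card A := by
    have h1 := AddSubgroup.card_eq_card_quotient_mul_card_addSubgroup (C₀.addSubgroupOf U)
    rw [Nat.card_congr (AddSubgroup.addSubgroupOfEquivOfLe hC₀U).toEquiv, hUcard] at h1
    exact (Nat.eq_of_mul_eq_mul_right Nat.card_pos h1).symm
  -- first coordinate
  let f : U × U' →+ V := U.subtype.coprod U'.subtype
  have hf : Function.Surjective f := fun v => by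
    obtain ⟨u, hu, u', hu', he⟩ := AddSubgroup.mem_sup.1 (hUtop ▸ AddSubgroup.mem_top v : v ∈ U ⊔ U')
    exact ⟨(⟨u, hu⟩, ⟨u', hu'⟩), he⟩
  let pU : V →+ Q := f.liftOfSurjective hf
    ⟨mkQ.comp (AddMonoidHom.fst U U'), fun q hq => by
      rw [AddMonoidHom.mem_ker, AddMonoidHom.comp_apply, hmk, ← hfixI]
      have h0 : (q.1 : V) + q.2 = 0 := hq
      exact ⟨q.1.2, show (q.1 : V) ∈ U' from by rw [eq_neg_of_add_eq_zero_left h0]; exact U'.neg_mem q.2.2⟩⟩
  have hpU : ∀ q : U × U', pU ((q.1 : V) + q.2) = mkQ q.1 := fun q =>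
    AddMonoidHom.liftOfRightInverse_comp_apply _ _ _ _ q
  have hpU1 : ∀ u : U, pU u = mkQ u := fun u => by simpa using hpU (u, 0)
  have hpU2 : ∀ u' ∈ U', pU u' = 0 := fun u' hu' => by simpa using hpU (0, ⟨u', hu'⟩)
  have hpU0 : ∀ v, pU v = 0 → v ∈ U' := fun v hv => by
    obtain ⟨q, rfl⟩ := hf v
    have h0 : mkQ q.1 = 0 := (hpU q).symm.trans hv
    exact U'.add_mem (hC₀U' ((hmk _).1 h0)) q.2.2
  -- second coordinate
  let q₁ : V →+ Q := AddMonoidHom.mk' (fun v => mkQ ⟨dd φ a₁ v, h.dd_mem a₁ ha₁ v⟩) fun v w => by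
    rw [← map_add]; exact congrArg mkQ (Subtype.ext (map_add (dd φ a₁) v w))
  have hq₁U : ∀ u ∈ U, q₁ u = 0 := fun u hu => (hmk _).2 (by
    show dd φ a₁ u ∈ C₀
    rw [dd_eq_zero.2 (hu a₁ ha₁)]; exact C₀.zero_mem)
  have hq₁ker : ∀ v, q₁ v = 0 → v ∈ U := fun v hv => by
    obtain ⟨q, rfl⟩ := hf v
    have h0 : q₁ ((q.1 : V) + q.2) = 0 := hv
    rw [map_add, hq₁U _ q.1.2, zero_add] at h0
    exact U.add_mem q.1.2 (hC₀U (h.inj_mod hx ha₁ ha₁1 q.2.2 ((hmk _).1 h0)))
  have hq₁s : Function.Surjective q₁ := by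
    let g : U' →+ Q := q₁.comp U'.subtype
    suffices hg : Function.Surjective g from fun y => ⟨_, (hg y).choose_spec⟩
    have hk : g.ker = C₀.addSubgroupOf U' := by
      ext u
      rw [AddMonoidHom.mem_ker, AddSubgroup.mem_addSubgroupOf]
      exact ⟨fun h0 => h.inj_mod hx ha₁ ha₁1 u.2 ((hmk _).1 h0), fun h0 => hq₁U _ (hC₀U h0)⟩
    have h1 := AddSubgroup.card_eq_card_quotient_mul_card_addSubgroup g.ker
    rw [Nat.card_congr (QuotientAddGroup.quotientKerEquivRange g).toEquiv, hk,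
      Nat.card_congr (AddSubgroup.addSubgroupOfEquivOfLe hC₀U').toEquiv] at h1
    have hU' : Nat.card U' = Nat.card U := by
      have := card_fix_cj x A (⊤ : AddSubgroup V) (φ := φ) fun _ _ _ => AddSubgroup.mem_top _
      simpa [U, U'] using this
    rw [hU', hUcard, ← hQcard] at h1
    exact AddMonoidHom.range_eq_top.1
      (AddSubgroup.eq_top_of_card_eq _ (Nat.eq_of_mul_eq_mul_right Nat.card_pos h1).symm)
  -- the maps of `A`
  let s : A → AddMonoid.End Q := fun a => q₁.liftOfSurjective hq₁s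
    ⟨mkQ.comp (AddMonoidHom.mk' (fun v => (⟨dd φ (a : P) v, h.dd_mem a a.2 v⟩ : U))
      fun v w => Subtype.ext (map_add (dd φ (a : P)) v w)), fun v hv => by
      rw [AddMonoidHom.mem_ker, AddMonoidHom.comp_apply, hmk]
      show dd φ (a : P) v ∈ C₀
      rw [dd_eq_zero.2 (hq₁ker v hv a a.2)]; exact C₀.zero_mem⟩
  have hs : ∀ (a : A) v, s a (q₁ v) = mkQ ⟨dd φ (a : P) v, h.dd_mem a a.2 v⟩ := fun a v =>
    AddMonoidHom.liftOfRightInverse_comp_apply _ _ _ _ v
  have hsA : ∀ (a : A) v, pU (φ (a : P) v) = pU v + s a (q₁ v) ∧ q₁ (φ (a : P) v) = q₁ v := by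
    intro a v
    have e : φ (a : P) v = v + dd φ (a : P) v := by rw [dd_apply]; abel
    rw [e, map_add, map_add, hs, hq₁U _ (h.dd_mem a a.2 v), add_zero]
    exact ⟨congrArg (pU v + ·) (hpU1 ⟨_, h.dd_mem a a.2 v⟩), rfl⟩
  let sH : Additive A →+ AddMonoid.End Q := AddMonoidHom.mk' (fun a => s (Additive.toMul a))
    fun a b => DFunLike.ext (F := AddMonoid.End Q) _ _ fun (y : Q) => by
      obtain ⟨v, rfl⟩ := hq₁s y
      show s (Additive.toMul a * Additive.toMul b) (q₁ v) = s (Additive.toMul a) (q₁ v) + s (Additive.toMul b) (q₁ v)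
      rw [hs, hs, hs, ← map_add]
      exact congrArg mkQ (Subtype.ext (h.dd_mul (Additive.toMul a).2 (Additive.toMul b).2 v))
  have hs1 : s ⟨a₁, ha₁⟩ = 1 := DFunLike.ext (F := AddMonoid.End Q) _ _ fun (y : Q) => by
    obtain ⟨v, rfl⟩ := hq₁s y
    rw [hs]; rfl
  obtain ⟨v₀, hv₀, hv₀'⟩ := h.moved
  have hv₁ : φ x v₀ ∈ U' ∧ φ x v₀ ∉ C₀ := by
    refine ⟨mem_fixA_cj.2 (by rw [phi_inv_cancel]; exact fun c hc => hv₀ c (h.hAT hc)),
      fun hc => hv₀' fun k _ => ?_⟩
    have h1 := hc (x * k * x⁻¹) (mem_top _)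
    rw [phi_mul, phi_mul, phi_inv_cancel] at h1
    have h2 := congrArg (φ x⁻¹) h1
    rwa [phi_inv_cancel, phi_inv_cancel] at h2
  have hsinj : Function.Injective sH := by
    refine (injective_iff_map_eq_zero sH).2 fun a ha => ?_
    by_contra ha0
    refine hv₁.2 (h.inj_mod hx (Additive.toMul a).2
      (fun h0 => ha0 (Additive.toMul.injective (Subtype.ext h0))) hv₁.1 ?_)
    have h1 : s (Additive.toMul a) (q₁ (φ x v₀)) = 0 := by
      rw [show s (Additive.toMul a) = 0 from ha]; rfl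
    rw [hs, hmk] at h1
    exact h1
  -- the maps of the conjugate
  have hdmem' : ∀ b ∈ cj x A, ∀ v, dd φ b v ∈ U' := by
    rintro _ ⟨a, ha, rfl⟩ v
    simp only [MulEquiv.coe_toMonoidHom, MulAut.conj_apply]
    rw [dd_cj, mem_fixA_cj, phi_inv_cancel]
    exact h.dd_mem a ha _
  let t : cj x A → AddMonoid.End Q := fun b => pU.liftOfSurjective
    (fun y => by obtain ⟨u, rfl⟩ := QuotientAddGroup.mk'_surjective _ y; exact ⟨u, hpU1 u⟩)
    ⟨q₁.comp (dd φ (b : P)), fun v hv => by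
      show q₁ (dd φ (b : P) v) = 0
      rw [dd_eq_zero.2 (hpU0 v hv b b.2), map_zero]⟩
  have ht : ∀ (b : cj x A) v, t b (pU v) = q₁ (dd φ (b : P) v) := fun b v =>
    AddMonoidHom.liftOfRightInverse_comp_apply _ _ _ _ v
  have htA : ∀ (b : cj x A) v, pU (φ (b : P) v) = pU v ∧ q₁ (φ (b : P) v) = q₁ v + t b (pU v) := by
    intro b v
    have e : φ (b : P) v = v + dd φ (b : P) v := by rw [dd_apply]; abel
    rw [e, map_add, map_add, ht, hpU2 _ (hdmem' b b.2 v), add_zero]
    exact ⟨rfl, rfl⟩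
  let tH : Additive (cj x A) →+ AddMonoid.End Q := AddMonoidHom.mk' (fun a => t (Additive.toMul a))
    fun a b => DFunLike.ext (F := AddMonoid.End Q) _ _ fun (y : Q) => by
      obtain ⟨u, rfl⟩ := QuotientAddGroup.mk'_surjective _ y
      rw [show QuotientAddGroup.mk' _ u = pU u from (hpU1 u).symm]
      show t (Additive.toMul a * Additive.toMul b) (pU (u : V)) = t (Additive.toMul a) (pU (u : V)) + t (Additive.toMul b) (pU (u : V))
      rw [ht, ht, ht, ← map_add]
      refine congrArg q₁ ?_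
      obtain ⟨c, hc, hca⟩ := (Additive.toMul a).2
      obtain ⟨d, hd, hdb⟩ := (Additive.toMul b).2
      simp only [Subgroup.coe_mul, ← hca, ← hdb, MulEquiv.coe_toMonoidHom, MulAut.conj_apply]
      rw [show x * c * x⁻¹ * (x * d * x⁻¹) = x * (c * d) * x⁻¹ by group, dd_cj, dd_cj, dd_cj,
        h.dd_mul hc hd, map_add]
  have htinv : ∀ b : cj x A, b ≠ 1 → ∃ a : A, s a * t b = 1 := by
    intro b hb
    obtain ⟨c, hc, hcb⟩ := b.2
    have hbM : (b : P) ∉ M := by
      rw [← hcb]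
      have h1 := h.notMem_of_ne_one hc (g := x⁻¹) (fun h0 => hb (Subtype.ext (by
        rw [← hcb]; simp [h0]))) (fun h0 => hx (inv_inv x ▸ M.inv_mem h0))
      simpa using h1
    obtain ⟨a, ha, hae⟩ := h.translate_eq hbM hx
    refine ⟨⟨a, ha⟩, DFunLike.ext (F := AddMonoid.End Q) _ _ fun (y : Q) => ?_⟩
    obtain ⟨u, rfl⟩ := QuotientAddGroup.mk'_surjective _ y
    have hw : φ (b : P) u ∈ fixA φ (cj (b : P) A) := by
      rw [mem_fixA_cj, phi_inv_cancel]; exact u.2
    rw [hae] at hw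
    have hw' : φ a⁻¹ (φ (b : P) u) ∈ U' := by
      rw [mem_fixA_cj, mul_inv_rev, phi_mul, ← mem_fixA_cj] at hw
      exact hw
    have h0 := hpU2 _ hw'
    rw [(hsA ⟨a⁻¹, A.inv_mem ha⟩ _).1, (htA b _).1, (htA b _).2, hq₁U _ u.2, zero_add,
      show s ⟨a⁻¹, A.inv_mem ha⟩ = -s ⟨a, ha⟩ from map_neg sH (Additive.ofMul (⟨a, ha⟩ : A)),
      hpU1 u] at h0
    show s ⟨a, ha⟩ (t b (mkQ u)) = mkQ u
    exact (add_neg_eq_zero.1 h0).symm
  have hp : ∀ y : Q, p • y = 0 := fun y => by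
    obtain ⟨u, rfl⟩ := QuotientAddGroup.mk'_surjective _ y
    rw [← map_nsmul, show p • u = 0 from Subtype.ext (h.char _), map_zero]
  have hA1 : 1 < Nat.card A := (one_lt_card_iff_ne_bot A).2 h.ne_bot
  let SR : AddSubgroup (AddMonoid.End Q) :=
    AddMonoidHom.range (N := AddMonoid.End Q) (AddMonoidHom.mk' sH (fun a b => map_add sH a b))
  let TR : AddSubgroup (AddMonoid.End Q) :=
    AddMonoidHom.range (N := AddMonoid.End Q) (AddMonoidHom.mk' tH (fun a b => map_add tH a b))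
  have hcardS : Nat.card SR = Nat.card Q := by
    rw [hQcard]
    exact (Nat.card_congr (Equiv.ofInjective sH hsinj)).symm
  have htinj : Function.Injective tH := by
    refine (injective_iff_map_eq_zero tH).2 fun b hb => ?_
    by_contra hb0
    obtain ⟨a, ha⟩ := htinv (Additive.toMul b) fun h0 => hb0 (Additive.toMul.injective h0)
    rw [show t (Additive.toMul b) = 0 from hb, mul_zero] at ha
    haveI : Nontrivial Q := Finite.one_lt_card_iff_nontrivial.1 (hQcard ▸ hA1)
    obtain ⟨y, hy⟩ := exists_ne (0 : Q)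
    exact hy (DFunLike.congr_fun ha y).symm
  have hcardT : Nat.card TR = Nat.card SR := by
    rw [hcardS, hQcard]
    exact (Nat.card_congr (Equiv.ofInjective tH htinj)).symm.trans
      (Nat.card_congr (A.equivMapOfInjective _ (MulAut.conj x).injective).toEquiv).symm
  obtain ⟨hST, F, iF, iFF, θ, ι, hFcard, hθ⟩ := exists_field hp (hQcard ▸ hA1) SR TR
    hcardS hcardT ⟨Additive.ofMul (⟨a₁, ha₁⟩ : A), hs1⟩ (by
      rintro _ ⟨b, rfl⟩ hb
      obtain ⟨a, ha⟩ := htinv (Additive.toMul b) fun h0 => hb (by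
        rw [show b = 0 from Additive.toMul.injective h0, map_zero])
      exact ⟨_, ⟨Additive.ofMul a, rfl⟩, ha⟩)
  let Ψ : V →+ (Fin 2 → F) := AddMonoidHom.mk' (fun v => ![θ (pU v), θ (q₁ v)]) fun v w => by
    ext i; fin_cases i <;> simp
  have hΨs : Function.Surjective Ψ := fun z => by
    obtain ⟨v, hv⟩ := hq₁s (θ.symm (z 1))
    obtain ⟨u, hu⟩ := QuotientAddGroup.mk'_surjective (C₀.addSubgroupOf U) (θ.symm (z 0) - pU v)
    refine ⟨v + u, funext fun i => ?_⟩
    fin_cases i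
    · show θ (pU (v + u)) = z 0
      rw [map_add pU, hpU1, show mkQ u = θ.symm (z 0) - pU v from hu, add_sub_cancel, θ.apply_symm_apply]
    · show θ (q₁ (v + u)) = z 1
      rw [map_add q₁, hq₁U _ u.2, add_zero, hv, θ.apply_symm_apply]
  have hΨ0 : ∀ v, Ψ v = 0 ↔ v ∈ C₀ := fun v => by
    constructor
    · intro hv
      rw [← hfixI]
      refine ⟨hq₁ker v (θ.injective ?_), hpU0 v (θ.injective ?_)⟩
      · rw [map_zero]; exact congrFun hv 1
      · rw [map_zero]; exact congrFun hv 0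
    · intro hv
      ext i; fin_cases i
      · show θ (pU v) = 0
        rw [hpU2 v (hC₀U' hv), map_zero]
      · show θ (q₁ v) = 0
        rw [hq₁U v (hC₀U hv), map_zero]
  let act (g : P) (m : Matrix.SpecialLinearGroup (Fin 2) F) : Prop :=
    ∀ v, Ψ (φ g v) = (m : Matrix (Fin 2) (Fin 2) F).mulVec (Ψ v)
  have hup : ∀ a : A, act a (Cfsg.Lib.RootSub.upEl (ι ⟨sH (Additive.ofMul a), _, rfl⟩)) := by
    intro a v
    ext i; fin_cases i
    · show θ (pU (φ (a : P) v)) = _
      rw [(hsA a v).1, map_add]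
      erw [hθ ⟨sH (Additive.ofMul a), _, rfl⟩ (q₁ v)]
      rw [show Ψ v = ![θ (pU v), θ (q₁ v)] from rfl, upEl_mulVec]
      rfl
    · show θ (q₁ (φ (a : P) v)) = _
      rw [(hsA a v).2]
      rw [show Ψ v = ![θ (pU v), θ (q₁ v)] from rfl, upEl_mulVec]
      rfl
  have hlo : ∀ b : cj x A, act b (Cfsg.Lib.RootSub.loEl
      (ι ⟨tH (Additive.ofMul b), hST ▸ ⟨_, rfl⟩⟩)) := by
    intro b v
    ext i; fin_cases i
    · show θ (pU (φ (b : P) v)) = _
      rw [(htA b v).1]
      rw [show Ψ v = ![θ (pU v), θ (q₁ v)] from rfl, loEl_mulVec]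
      rfl
    · show θ (q₁ (φ (b : P) v)) = _
      rw [(htA b v).2, map_add]
      erw [hθ ⟨tH (Additive.ofMul b), hST ▸ ⟨_, rfl⟩⟩ (pU v)]
      rw [show Ψ v = ![θ (pU v), θ (q₁ v)] from rfl, loEl_mulVec]
      rfl
  have huniq : ∀ g m m', act g m → act g m' → m = m' := fun g m m' h1 h2 => by
    refine Subtype.ext (Matrix.ext_iff_mulVec.2 fun z => ?_)
    obtain ⟨v, rfl⟩ := hΨs z
    exact (h1 v).symm.trans (h2 v)
  have hact1 : act 1 1 := fun v => by simp [phi_one]
  have hactm : ∀ g k m n, act g m → act k n → act (g * k) (m * n) := fun g k m n h1 h2 v => by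
    rw [phi_mul, h1, h2, Matrix.mulVec_mulVec, Matrix.SpecialLinearGroup.coe_mul]
  have hex : ∀ g : P, ∃ m, act g m := by
    intro g
    have hg : g ∈ closure ((A : Set P) ∪ (cj x A : Set P)) := by
      rw [← sup_eq_closure, h.gen x hx]; exact mem_top g
    induction hg using closure_induction with
    | mem y hy => exact hy.elim (fun hy => ⟨_, hup ⟨y, hy⟩⟩) (fun hy => ⟨_, hlo ⟨y, hy⟩⟩)
    | one => exact ⟨1, hact1⟩
    | mul y z _ _ hy hz => exact ⟨_, hactm y z _ _ hy.choose_spec hz.choose_spec⟩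
    | inv y _ hy =>
      refine ⟨hy.choose⁻¹, fun v => ?_⟩
      conv_rhs => rw [← phi_cancel_inv (φ := φ) y v, hy.choose_spec]
      rw [Matrix.mulVec_mulVec, ← Matrix.SpecialLinearGroup.coe_mul, inv_mul_cancel,
        Matrix.SpecialLinearGroup.coe_one, Matrix.one_mulVec]
  choose R hR using hex
  let Rh : P →* Matrix.SpecialLinearGroup (Fin 2) F :=
    { toFun := R
      map_one' := huniq 1 _ _ (hR 1) hact1
      map_mul' := fun g k => huniq _ _ _ (hR _) (hactm g k _ _ (hR g) (hR k)) }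
  have hRi : Function.Injective Rh := by
    refine (injective_iff_map_eq_one Rh).2 fun g hg => h.eq_one_of_trivial fun v => ?_
    rw [← hΨ0, dd_apply, map_sub, hR g v, show R g = 1 from hg,
      Matrix.SpecialLinearGroup.coe_one, Matrix.one_mulVec, sub_self]
  have hRs : Function.Surjective Rh := by
    rw [← MonoidHom.range_eq_top, eq_top_iff, ← Cfsg.Lib.RootSub.lower_sup_upper]
    refine sup_le (fun m hm => ?_) fun m hm => ?_
    · obtain ⟨r, rfl⟩ := Cfsg.Lib.RootSub.mem_lower_iff.1 hm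
      obtain ⟨b, hb⟩ := (show (ι.symm r : AddMonoid.End Q) ∈ TR by rw [hST]; exact (ι.symm r).2)
      refine ⟨(Additive.toMul b : cj x A), huniq _ _ _ (hR _) ?_⟩
      have h1 := hlo (Additive.toMul b)
      rwa [show (⟨tH (Additive.ofMul (Additive.toMul b)), hST ▸ ⟨_, rfl⟩⟩ : SR) = ι.symm r
        from Subtype.ext hb, ι.apply_symm_apply] at h1
    · obtain ⟨r, rfl⟩ := Cfsg.Lib.RootSub.mem_upper_iff.1 hm
      obtain ⟨a, ha⟩ := (ι.symm r).2
      refine ⟨(Additive.toMul a : A), huniq _ _ _ (hR _) ?_⟩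
      have h1 := hup (Additive.toMul a)
      rwa [show (⟨sH (Additive.ofMul (Additive.toMul a)), _, rfl⟩ : SR) = ι.symm r
        from Subtype.ext ha, ι.apply_symm_apply] at h1
  refine ⟨F, iF, iFF, MulEquiv.ofBijective Rh ⟨hRi, hRs⟩, Ψ, hFcard.trans hQcard, hΨs, hΨ0,
    fun g v => hR g v, fun u hu => ?_, fun v => ⟨fun hv => ?_, fun hv => ?_⟩,
    fun v => ⟨fun hv => ?_, fun hv => ?_⟩, fun r => ?_, fun r => ?_⟩
  · obtain ⟨v, hv⟩ := hq₁s (mkQ ⟨u, hu⟩)
    have h1 : mkQ (⟨u, hu⟩ - ⟨dd φ a₁ v, h.dd_mem a₁ ha₁ v⟩) = 0 := by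
      rw [map_sub, sub_eq_zero]; exact hv.symm
    rw [hmk] at h1
    exact AddSubgroup.mem_sup.2 ⟨dd φ a₁ v, AddSubgroup.subset_closure ⟨a₁, ha₁, v, rfl⟩,
      u - dd φ a₁ v, h1, add_sub_cancel _ _⟩
  · show θ (q₁ v) = 0
    rw [hq₁U v hv, map_zero]
  · exact hq₁ker v (θ.injective (by rw [map_zero]; exact hv))
  · show θ (pU v) = 0
    rw [hpU2 v hv, map_zero]
  · exact hpU0 v (θ.injective (by rw [map_zero]; exact hv))
  · obtain ⟨a, ha⟩ := (ι.symm r).2
    refine ⟨(Additive.toMul a : A), (Additive.toMul a).2, huniq _ _ _ (hR _) ?_⟩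
    have h1 := hup (Additive.toMul a)
    rwa [show (⟨sH (Additive.ofMul (Additive.toMul a)), _, rfl⟩ : SR) = ι.symm r
      from Subtype.ext ha, ι.apply_symm_apply] at h1
  · obtain ⟨b, hb⟩ := (show (ι.symm r : AddMonoid.End Q) ∈ TR by rw [hST]; exact (ι.symm r).2)
    refine ⟨(Additive.toMul b : cj x A), (Additive.toMul b).2, huniq _ _ _ (hR _) ?_⟩
    have h1 := hlo (Additive.toMul b)
    rwa [show (⟨tH (Additive.ofMul (Additive.toMul b)), hST ▸ ⟨_, rfl⟩⟩ : SR) = ι.symm r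
      from Subtype.ext hb, ι.apply_symm_apply] at h1

/-- the group is `SL₂` on its natural module -/
theorem natural (h : Hyp p φ T A M) :
    ∃ (F : Type) (_ : Field F) (_ : Fintype F) (ρ : P ≃* Matrix.SpecialLinearGroup (Fin 2) F)
      (Ψ : V →+ (Fin 2 → F)), Fintype.card F = Nat.card A ∧ Function.Surjective Ψ ∧
      (∀ v, Ψ v = 0 ↔ v ∈ fixA φ (⊤ : Subgroup P)) ∧
      (∀ g v, Ψ (φ g v) = ((ρ g : Matrix.SpecialLinearGroup (Fin 2) F) :
        Matrix (Fin 2) (Fin 2) F).mulVec (Ψ v)) ∧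
      fixA φ A ≤ AddSubgroup.closure {w | ∃ a ∈ A, ∃ v, dd φ a v = w} ⊔
        fixA φ (⊤ : Subgroup P) := by
  obtain ⟨x, hx⟩ := h.exists_outside
  obtain ⟨F, iF, iFF, ρ, Ψ, h1, h2, h3, h4, h5, -⟩ := h.natural_coord hx
  exact ⟨F, iF, iFF, ρ, Ψ, h1, h2, h3, h4, h5⟩

end Hyp

end Cfsg.Lib.FFSLTwo
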